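import Cfsg.Agent.H24.Fi24Cover.Defs

/-!
Checks of the labels of the triple cover on a range of nodes (generated).
-/

set_option autoImplicit false
set_option maxRecDepth 100000
set_option linter.all false
set_option Elab.async false

namespace H24.Fi24Cover

open H93.Coset

theorem ok16 : allRange 2412 179 nodeOK = true := by decide +kernel

theorem ok17 : allRange 2591 152 nodeOK = true := by decide +kernel

theorem ok18 : allRange 2743 146 nodeOK = true := by decide +kernel

theorem ok19 : allRange 2889 138 nodeOK = true := by decide +kernel

theorem ok20 : allRange 3027 148 nodeOK = true := by decide +kernel

theorem ok21 : allRange 3175 157 nodeOK = true := by decide +kernel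

theorem ok22 : allRange 3332 192 nodeOK = true := by decide +kernel

theorem ok23 : allRange 3524 195 nodeOK = true := by decide +kernel

theorem ok24 : allRange 3719 137 nodeOK = true := by decide +kernel

theorem ok25 : allRange 3856 150 nodeOK = true := by decide +kernel

theorem ok26 : allRange 4006 153 nodeOK = true := by decide +kernel

theorem ok27 : allRange 4159 158 nodeOK = true := by decide +kernel

theorem ok28 : allRange 4317 170 nodeOK = true := by decide +kernel

theorem ok29 : allRange 4487 215 nodeOK = true := by decide +kernel

theorem ok30 : allRange 4702 197 nodeOK = true := by decide +kernel

theorem ok31 : allRange 4899 199 nodeOK = true := by decide +kernel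

end H24.Fi24Cover
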