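import Cfsg.Agent.H24.Fi24Cover.Defs

/-!
Checks of the labels of the triple cover on a range of nodes (generated).
-/

set_option autoImplicit false
set_option maxRecDepth 100000
set_option linter.all false
set_option Elab.async false

namespace H24.Fi24Cover

open H93.Coset

theorem ok160 : allRange 36866 273 nodeOK = true := by decide +kernel

theorem ok161 : allRange 37139 401 nodeOK = true := by decide +kernel

theorem ok162 : allRange 37540 396 nodeOK = true := by decide +kernel

theorem ok163 : allRange 37936 313 nodeOK = true := by decide +kernel

theorem ok164 : allRange 38249 452 nodeOK = true := by decide +kernel

theorem ok165 : allRange 38701 367 nodeOK = true := by decide +kernel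

theorem ok166 : allRange 39068 404 nodeOK = true := by decide +kernel

theorem ok167 : allRange 39472 415 nodeOK = true := by decide +kernel

theorem ok168 : allRange 39887 437 nodeOK = true := by decide +kernel

theorem ok169 : allRange 40324 324 nodeOK = true := by decide +kernel

theorem ok170 : allRange 40648 308 nodeOK = true := by decide +kernel

theorem ok171 : allRange 40956 242 nodeOK = true := by decide +kernel

theorem ok172 : allRange 41198 346 nodeOK = true := by decide +kernel

theorem ok173 : allRange 41544 334 nodeOK = true := by decide +kernel

theorem ok174 : allRange 41878 333 nodeOK = true := by decide +kernel

theorem ok175 : allRange 42211 252 nodeOK = true := by decide +kernel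

end H24.Fi24Cover
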