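import Cfsg.Agent.H24.Fi24Cover.Defs

/-!
Checks of the labels of the triple cover on a range of nodes (generated).
-/

set_option autoImplicit false
set_option maxRecDepth 100000
set_option linter.all false
set_option Elab.async false

namespace H24.Fi24Cover

open H93.Coset

theorem ok176 : allRange 42463 387 nodeOK = true := by decide +kernel

theorem ok177 : allRange 42850 347 nodeOK = true := by decide +kernel

theorem ok178 : allRange 43197 301 nodeOK = true := by decide +kernel

theorem ok179 : allRange 43498 374 nodeOK = true := by decide +kernel

theorem ok180 : allRange 43872 407 nodeOK = true := by decide +kernel

theorem ok181 : allRange 44279 511 nodeOK = true := by decide +kernel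

theorem ok182 : allRange 44790 504 nodeOK = true := by decide +kernel

theorem ok183 : allRange 45294 412 nodeOK = true := by decide +kernel

theorem ok184 : allRange 45706 319 nodeOK = true := by decide +kernel

theorem ok185 : allRange 46025 452 nodeOK = true := by decide +kernel

theorem ok186 : allRange 46477 401 nodeOK = true := by decide +kernel

theorem ok187 : allRange 46878 471 nodeOK = true := by decide +kernel

theorem ok188 : allRange 47349 470 nodeOK = true := by decide +kernel

theorem ok189 : allRange 47819 417 nodeOK = true := by decide +kernel

theorem ok190 : allRange 48236 383 nodeOK = true := by decide +kernel

theorem ok191 : allRange 48619 496 nodeOK = true := by decide +kernel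

end H24.Fi24Cover
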