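import Cfsg.Agent.H24.Fi24Cover.Defs

/-!
Checks of the labels of the triple cover on a range of nodes (generated).
-/

set_option autoImplicit false
set_option maxRecDepth 100000
set_option linter.all false
set_option Elab.async false

namespace H24.Fi24Cover

open H93.Coset

theorem ok192 : allRange 49115 463 nodeOK = true := by decide +kernel

theorem ok193 : allRange 49578 458 nodeOK = true := by decide +kernel

theorem ok194 : allRange 50036 600 nodeOK = true := by decide +kernel

theorem ok195 : allRange 50636 493 nodeOK = true := by decide +kernel

theorem ok196 : allRange 51129 441 nodeOK = true := by decide +kernel

theorem ok197 : allRange 51570 380 nodeOK = true := by decide +kernel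

theorem ok198 : allRange 51950 439 nodeOK = true := by decide +kernel

theorem ok199 : allRange 52389 449 nodeOK = true := by decide +kernel

theorem ok200 : allRange 52838 393 nodeOK = true := by decide +kernel

theorem ok201 : allRange 53231 426 nodeOK = true := by decide +kernel

theorem ok202 : allRange 53657 332 nodeOK = true := by decide +kernel

theorem ok203 : allRange 53989 527 nodeOK = true := by decide +kernel

theorem ok204 : allRange 54516 359 nodeOK = true := by decide +kernel

theorem ok205 : allRange 54875 400 nodeOK = true := by decide +kernel

theorem ok206 : allRange 55275 432 nodeOK = true := by decide +kernel

theorem ok207 : allRange 55707 582 nodeOK = true := by decide +kernel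

end H24.Fi24Cover
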