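import Cfsg.Agent.H24.Fi24Cover.Defs

/-!
Checks of the labels of the triple cover on a range of nodes (generated).
-/

set_option autoImplicit false
set_option maxRecDepth 100000
set_option linter.all false
set_option Elab.async false

namespace H24.Fi24Cover

open H93.Coset

theorem ok208 : allRange 56289 576 nodeOK = true := by decide +kernel

theorem ok209 : allRange 56865 465 nodeOK = true := by decide +kernel

theorem ok210 : allRange 57330 412 nodeOK = true := by decide +kernel

theorem ok211 : allRange 57742 450 nodeOK = true := by decide +kernel

theorem ok212 : allRange 58192 596 nodeOK = true := by decide +kernel

theorem ok213 : allRange 58788 643 nodeOK = true := by decide +kernel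

theorem ok214 : allRange 59431 644 nodeOK = true := by decide +kernel

theorem ok215 : allRange 60075 531 nodeOK = true := by decide +kernel

theorem ok216 : allRange 60606 483 nodeOK = true := by decide +kernel

theorem ok217 : allRange 61089 588 nodeOK = true := by decide +kernel

theorem ok218 : allRange 61677 558 nodeOK = true := by decide +kernel

theorem ok219 : allRange 62235 513 nodeOK = true := by decide +kernel

theorem ok220 : allRange 62748 681 nodeOK = true := by decide +kernel

theorem ok221 : allRange 63429 582 nodeOK = true := by decide +kernel

theorem ok222 : allRange 64011 476 nodeOK = true := by decide +kernel

theorem ok223 : allRange 64487 472 nodeOK = true := by decide +kernel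

end H24.Fi24Cover
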