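import Cfsg.Agent.H24.Fi24Cover.Defs

/-!
Checks of the labels of the triple cover on a range of nodes (generated).
-/

set_option autoImplicit false
set_option maxRecDepth 100000
set_option linter.all false
set_option Elab.async false

namespace H24.Fi24Cover

open H93.Coset

theorem ok224 : allRange 64959 516 nodeOK = true := by decide +kernel

theorem ok225 : allRange 65475 619 nodeOK = true := by decide +kernel

theorem ok226 : allRange 66094 488 nodeOK = true := by decide +kernel

theorem ok227 : allRange 66582 560 nodeOK = true := by decide +kernel

theorem ok228 : allRange 67142 426 nodeOK = true := by decide +kernel

theorem ok229 : allRange 67568 610 nodeOK = true := by decide +kernel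

theorem ok230 : allRange 68178 516 nodeOK = true := by decide +kernel

theorem ok231 : allRange 68694 472 nodeOK = true := by decide +kernel

theorem ok232 : allRange 69166 530 nodeOK = true := by decide +kernel

theorem ok233 : allRange 69696 641 nodeOK = true := by decide +kernel

theorem ok234 : allRange 70337 659 nodeOK = true := by decide +kernel

theorem ok235 : allRange 70996 561 nodeOK = true := by decide +kernel

theorem ok236 : allRange 71557 502 nodeOK = true := by decide +kernel

theorem ok237 : allRange 72059 700 nodeOK = true := by decide +kernel

theorem ok238 : allRange 72759 672 nodeOK = true := by decide +kernel

theorem ok239 : allRange 73431 812 nodeOK = true := by decide +kernel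

end H24.Fi24Cover
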