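import Cfsg.Agent.H24.Fi24Cover.Defs

/-!
Checks of the labels of the triple cover on a range of nodes (generated).
-/

set_option autoImplicit false
set_option maxRecDepth 100000
set_option linter.all false
set_option Elab.async false

namespace H24.Fi24Cover

open H93.Coset

theorem ok256 : allRange 85084 599 nodeOK = true := by decide +kernel

theorem ok257 : allRange 85683 755 nodeOK = true := by decide +kernel

theorem ok258 : allRange 86438 803 nodeOK = true := by decide +kernel

theorem ok259 : allRange 87241 632 nodeOK = true := by decide +kernel

theorem ok260 : allRange 87873 655 nodeOK = true := by decide +kernel

theorem ok261 : allRange 88528 1000 nodeOK = true := by decide +kernel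

theorem ok262 : allRange 89528 983 nodeOK = true := by decide +kernel

theorem ok263 : allRange 90511 902 nodeOK = true := by decide +kernel

theorem ok264 : allRange 91413 933 nodeOK = true := by decide +kernel

theorem ok265 : allRange 92346 792 nodeOK = true := by decide +kernel

theorem ok266 : allRange 93138 912 nodeOK = true := by decide +kernel

theorem ok267 : allRange 94050 745 nodeOK = true := by decide +kernel

theorem ok268 : allRange 94795 916 nodeOK = true := by decide +kernel

theorem ok269 : allRange 95711 968 nodeOK = true := by decide +kernel

theorem ok270 : allRange 96679 730 nodeOK = true := by decide +kernel

theorem ok271 : allRange 97409 751 nodeOK = true := by decide +kernel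

end H24.Fi24Cover
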