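import Cfsg.Agent.H24.Fi24Cover.Defs

/-!
Checks of the labels of the triple cover on a range of nodes (generated).
-/

set_option autoImplicit false
set_option maxRecDepth 100000
set_option linter.all false
set_option Elab.async false

namespace H24.Fi24Cover

open H93.Coset

theorem ok272 : allRange 98160 768 nodeOK = true := by decide +kernel

theorem ok273 : allRange 98928 909 nodeOK = true := by decide +kernel

theorem ok274 : allRange 99837 738 nodeOK = true := by decide +kernel

theorem ok275 : allRange 100575 881 nodeOK = true := by decide +kernel

theorem ok276 : allRange 101456 782 nodeOK = true := by decide +kernel

theorem ok277 : allRange 102238 831 nodeOK = true := by decide +kernel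

theorem ok278 : allRange 103069 616 nodeOK = true := by decide +kernel

theorem ok279 : allRange 103685 813 nodeOK = true := by decide +kernel

theorem ok280 : allRange 104498 981 nodeOK = true := by decide +kernel

theorem ok281 : allRange 105479 871 nodeOK = true := by decide +kernel

theorem ok282 : allRange 106350 1055 nodeOK = true := by decide +kernel

theorem ok283 : allRange 107405 966 nodeOK = true := by decide +kernel

theorem ok284 : allRange 108371 1175 nodeOK = true := by decide +kernel

theorem ok285 : allRange 109546 1181 nodeOK = true := by decide +kernel

theorem ok286 : allRange 110727 1026 nodeOK = true := by decide +kernel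

theorem ok287 : allRange 111753 1135 nodeOK = true := by decide +kernel

end H24.Fi24Cover
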