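import Cfsg.Agent.H24.Fi24Cover.Defs

/-!
Checks of the labels of the triple cover on a range of nodes (generated).
-/

set_option autoImplicit false
set_option maxRecDepth 100000
set_option linter.all false
set_option Elab.async false

namespace H24.Fi24Cover

open H93.Coset

theorem ok288 : allRange 112888 931 nodeOK = true := by decide +kernel

theorem ok289 : allRange 113819 1044 nodeOK = true := by decide +kernel

theorem ok290 : allRange 114863 1090 nodeOK = true := by decide +kernel

theorem ok291 : allRange 115953 985 nodeOK = true := by decide +kernel

theorem ok292 : allRange 116938 905 nodeOK = true := by decide +kernel

theorem ok293 : allRange 117843 1208 nodeOK = true := by decide +kernel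

theorem ok294 : allRange 119051 1069 nodeOK = true := by decide +kernel

theorem ok295 : allRange 120120 921 nodeOK = true := by decide +kernel

theorem ok296 : allRange 121041 1029 nodeOK = true := by decide +kernel

theorem ok297 : allRange 122070 1053 nodeOK = true := by decide +kernel

theorem ok298 : allRange 123123 844 nodeOK = true := by decide +kernel

theorem ok299 : allRange 123967 1059 nodeOK = true := by decide +kernel

theorem ok300 : allRange 125026 1091 nodeOK = true := by decide +kernel

theorem ok301 : allRange 126117 1293 nodeOK = true := by decide +kernel

theorem ok302 : allRange 127410 1501 nodeOK = true := by decide +kernel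

theorem ok303 : allRange 128911 1522 nodeOK = true := by decide +kernel

end H24.Fi24Cover
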