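import Cfsg.Agent.H24.Fi24Cover.Defs

/-!
Checks of the labels of the triple cover on a range of nodes (generated).
-/

set_option autoImplicit false
set_option maxRecDepth 100000
set_option linter.all false
set_option Elab.async false

namespace H24.Fi24Cover

open H93.Coset

theorem ok304 : allRange 130433 1411 nodeOK = true := by decide +kernel

theorem ok305 : allRange 131844 1480 nodeOK = true := by decide +kernel

theorem ok306 : allRange 133324 1156 nodeOK = true := by decide +kernel

theorem ok307 : allRange 134480 1338 nodeOK = true := by decide +kernel

theorem ok308 : allRange 135818 1379 nodeOK = true := by decide +kernel

theorem ok309 : allRange 137197 1291 nodeOK = true := by decide +kernel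

theorem ok310 : allRange 138488 1291 nodeOK = true := by decide +kernel

theorem ok311 : allRange 139779 1372 nodeOK = true := by decide +kernel

theorem ok312 : allRange 141151 1247 nodeOK = true := by decide +kernel

theorem ok313 : allRange 142398 1322 nodeOK = true := by decide +kernel

theorem ok314 : allRange 143720 1314 nodeOK = true := by decide +kernel

theorem ok315 : allRange 145034 1260 nodeOK = true := by decide +kernel

theorem ok316 : allRange 146294 1210 nodeOK = true := by decide +kernel

theorem ok317 : allRange 147504 1759 nodeOK = true := by decide +kernel

theorem ok318 : allRange 149263 1586 nodeOK = true := by decide +kernel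

theorem ok319 : allRange 150849 1833 nodeOK = true := by decide +kernel

end H24.Fi24Cover
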