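import Cfsg.Agent.H24.Fi24Cover.Defs

/-!
Checks of the labels of the triple cover on a range of nodes (generated).
-/

set_option autoImplicit false
set_option maxRecDepth 100000
set_option linter.all false
set_option Elab.async false

namespace H24.Fi24Cover

open H93.Coset

theorem ok32 : allRange 5098 155 nodeOK = true := by decide +kernel

theorem ok33 : allRange 5253 191 nodeOK = true := by decide +kernel

theorem ok34 : allRange 5444 174 nodeOK = true := by decide +kernel

theorem ok35 : allRange 5618 174 nodeOK = true := by decide +kernel

theorem ok36 : allRange 5792 192 nodeOK = true := by decide +kernel

theorem ok37 : allRange 5984 237 nodeOK = true := by decide +kernel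

theorem ok38 : allRange 6221 245 nodeOK = true := by decide +kernel

theorem ok39 : allRange 6466 261 nodeOK = true := by decide +kernel

theorem ok40 : allRange 6727 186 nodeOK = true := by decide +kernel

theorem ok41 : allRange 6913 162 nodeOK = true := by decide +kernel

theorem ok42 : allRange 7075 198 nodeOK = true := by decide +kernel

theorem ok43 : allRange 7273 194 nodeOK = true := by decide +kernel

theorem ok44 : allRange 7467 196 nodeOK = true := by decide +kernel

theorem ok45 : allRange 7663 190 nodeOK = true := by decide +kernel

theorem ok46 : allRange 7853 202 nodeOK = true := by decide +kernel

theorem ok47 : allRange 8055 253 nodeOK = true := by decide +kernel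

end H24.Fi24Cover
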