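import Cfsg.Agent.H24.Fi24Cover.Defs

/-!
Checks of the labels of the triple cover on a range of nodes (generated).
-/

set_option autoImplicit false
set_option maxRecDepth 100000
set_option linter.all false
set_option Elab.async false

namespace H24.Fi24Cover

open H93.Coset

theorem ok320 : allRange 152682 1713 nodeOK = true := by decide +kernel

theorem ok321 : allRange 154395 1756 nodeOK = true := by decide +kernel

theorem ok322 : allRange 156151 1603 nodeOK = true := by decide +kernel

theorem ok323 : allRange 157754 1815 nodeOK = true := by decide +kernel

theorem ok324 : allRange 159569 1575 nodeOK = true := by decide +kernel

theorem ok325 : allRange 161144 1560 nodeOK = true := by decide +kernel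

theorem ok326 : allRange 162704 1656 nodeOK = true := by decide +kernel

theorem ok327 : allRange 164360 1664 nodeOK = true := by decide +kernel

theorem ok328 : allRange 166024 1694 nodeOK = true := by decide +kernel

theorem ok329 : allRange 167718 1757 nodeOK = true := by decide +kernel

theorem ok330 : allRange 169475 1551 nodeOK = true := by decide +kernel

theorem ok331 : allRange 171026 2106 nodeOK = true := by decide +kernel

theorem ok332 : allRange 173132 2175 nodeOK = true := by decide +kernel

theorem ok333 : allRange 175307 2048 nodeOK = true := by decide +kernel

theorem ok334 : allRange 177355 2027 nodeOK = true := by decide +kernel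

theorem ok335 : allRange 179382 2025 nodeOK = true := by decide +kernel

end H24.Fi24Cover
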