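import Cfsg.Agent.H24.Fi24Cover.Defs

/-!
Checks of the labels of the triple cover on a range of nodes (generated).
-/

set_option autoImplicit false
set_option maxRecDepth 100000
set_option linter.all false
set_option Elab.async false

namespace H24.Fi24Cover

open H93.Coset

theorem ok336 : allRange 181407 2156 nodeOK = true := by decide +kernel

theorem ok337 : allRange 183563 1942 nodeOK = true := by decide +kernel

theorem ok338 : allRange 185505 2056 nodeOK = true := by decide +kernel

theorem ok339 : allRange 187561 2046 nodeOK = true := by decide +kernel

theorem ok340 : allRange 189607 1948 nodeOK = true := by decide +kernel

theorem ok341 : allRange 191555 2186 nodeOK = true := by decide +kernel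

theorem ok342 : allRange 193741 2024 nodeOK = true := by decide +kernel

theorem ok343 : allRange 195765 2287 nodeOK = true := by decide +kernel

theorem ok344 : allRange 198052 2404 nodeOK = true := by decide +kernel

theorem ok345 : allRange 200456 2399 nodeOK = true := by decide +kernel

theorem ok346 : allRange 202855 2313 nodeOK = true := by decide +kernel

theorem ok347 : allRange 205168 2372 nodeOK = true := by decide +kernel

theorem ok348 : allRange 207540 2294 nodeOK = true := by decide +kernel

theorem ok349 : allRange 209834 2340 nodeOK = true := by decide +kernel

theorem ok350 : allRange 212174 2355 nodeOK = true := by decide +kernel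

theorem ok351 : allRange 214529 2358 nodeOK = true := by decide +kernel

end H24.Fi24Cover
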