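import Cfsg.Agent.H24.Fi24Cover.Defs

/-!
Checks of the labels of the triple cover on a range of nodes (generated).
-/

set_option autoImplicit false
set_option maxRecDepth 100000
set_option linter.all false
set_option Elab.async false

namespace H24.Fi24Cover

open H93.Coset

theorem ok352 : allRange 216887 2376 nodeOK = true := by decide +kernel

theorem ok353 : allRange 219263 2442 nodeOK = true := by decide +kernel

theorem ok354 : allRange 221705 2624 nodeOK = true := by decide +kernel

theorem ok355 : allRange 224329 2632 nodeOK = true := by decide +kernel

theorem ok356 : allRange 226961 2596 nodeOK = true := by decide +kernel

theorem ok357 : allRange 229557 2577 nodeOK = true := by decide +kernel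

theorem ok358 : allRange 232134 2722 nodeOK = true := by decide +kernel

theorem ok359 : allRange 234856 2630 nodeOK = true := by decide +kernel

theorem ok360 : allRange 237486 2665 nodeOK = true := by decide +kernel

theorem ok361 : allRange 240151 2634 nodeOK = true := by decide +kernel

theorem ok362 : allRange 242785 2511 nodeOK = true := by decide +kernel

theorem ok363 : allRange 245296 2766 nodeOK = true := by decide +kernel

theorem ok364 : allRange 248062 2833 nodeOK = true := by decide +kernel

theorem ok365 : allRange 250895 2720 nodeOK = true := by decide +kernel

theorem ok366 : allRange 253615 2747 nodeOK = true := by decide +kernel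

theorem ok367 : allRange 256362 2892 nodeOK = true := by decide +kernel

end H24.Fi24Cover
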