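import Cfsg.Agent.H24.Fi24Cover.Defs

/-!
Checks of the labels of the triple cover on a range of nodes (generated).
-/

set_option autoImplicit false
set_option maxRecDepth 100000
set_option linter.all false
set_option Elab.async false

namespace H24.Fi24Cover

open H93.Coset

theorem ok368 : allRange 259254 2848 nodeOK = true := by decide +kernel

theorem ok369 : allRange 262102 2780 nodeOK = true := by decide +kernel

theorem ok370 : allRange 264882 2741 nodeOK = true := by decide +kernel

theorem ok371 : allRange 267623 2929 nodeOK = true := by decide +kernel

theorem ok372 : allRange 270552 2967 nodeOK = true := by decide +kernel

theorem ok373 : allRange 273519 2908 nodeOK = true := by decide +kernel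

theorem ok374 : allRange 276427 2981 nodeOK = true := by decide +kernel

theorem ok375 : allRange 279408 2953 nodeOK = true := by decide +kernel

theorem ok376 : allRange 282361 2972 nodeOK = true := by decide +kernel

theorem ok377 : allRange 285333 3069 nodeOK = true := by decide +kernel

theorem ok378 : allRange 288402 3012 nodeOK = true := by decide +kernel

theorem ok379 : allRange 291414 3079 nodeOK = true := by decide +kernel

theorem ok380 : allRange 294493 3086 nodeOK = true := by decide +kernel

theorem ok381 : allRange 297579 3069 nodeOK = true := by decide +kernel

theorem ok382 : allRange 300648 3121 nodeOK = true := by decide +kernel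

theorem ok383 : allRange 303769 3167 nodeOK = true := by decide +kernel

end H24.Fi24Cover
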