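import Cfsg.Agent.H24.Fi24Cover.Defs

/-!
Checks of the labels of the triple cover on a range of nodes (generated).
-/

set_option autoImplicit false
set_option maxRecDepth 100000
set_option linter.all false
set_option Elab.async false

namespace H24.Fi24Cover

open H93.Coset

theorem ok48 : allRange 8308 233 nodeOK = true := by decide +kernel

theorem ok49 : allRange 8541 267 nodeOK = true := by decide +kernel

theorem ok50 : allRange 8808 207 nodeOK = true := by decide +kernel

theorem ok51 : allRange 9015 185 nodeOK = true := by decide +kernel

theorem ok52 : allRange 9200 164 nodeOK = true := by decide +kernel

theorem ok53 : allRange 9364 220 nodeOK = true := by decide +kernel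

theorem ok54 : allRange 9584 249 nodeOK = true := by decide +kernel

theorem ok55 : allRange 9833 192 nodeOK = true := by decide +kernel

theorem ok56 : allRange 10025 187 nodeOK = true := by decide +kernel

theorem ok57 : allRange 10212 231 nodeOK = true := by decide +kernel

theorem ok58 : allRange 10443 215 nodeOK = true := by decide +kernel

theorem ok59 : allRange 10658 247 nodeOK = true := by decide +kernel

theorem ok60 : allRange 10905 194 nodeOK = true := by decide +kernel

theorem ok61 : allRange 11099 284 nodeOK = true := by decide +kernel

theorem ok62 : allRange 11383 272 nodeOK = true := by decide +kernel

theorem ok63 : allRange 11655 165 nodeOK = true := by decide +kernel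

end H24.Fi24Cover
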