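import Cfsg.Agent.H24.Fi24Cover.Defs

/-!
Checks of the labels of the triple cover on a range of nodes (generated).
-/

set_option autoImplicit false
set_option maxRecDepth 100000
set_option linter.all false
set_option Elab.async false

namespace H24.Fi24Cover

open H93.Coset

theorem ok64 : allRange 11820 178 nodeOK = true := by decide +kernel

theorem ok65 : allRange 11998 177 nodeOK = true := by decide +kernel

theorem ok66 : allRange 12175 180 nodeOK = true := by decide +kernel

theorem ok67 : allRange 12355 251 nodeOK = true := by decide +kernel

theorem ok68 : allRange 12606 294 nodeOK = true := by decide +kernel

theorem ok69 : allRange 12900 178 nodeOK = true := by decide +kernel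

theorem ok70 : allRange 13078 159 nodeOK = true := by decide +kernel

theorem ok71 : allRange 13237 253 nodeOK = true := by decide +kernel

theorem ok72 : allRange 13490 226 nodeOK = true := by decide +kernel

theorem ok73 : allRange 13716 227 nodeOK = true := by decide +kernel

theorem ok74 : allRange 13943 222 nodeOK = true := by decide +kernel

theorem ok75 : allRange 14165 193 nodeOK = true := by decide +kernel

theorem ok76 : allRange 14358 295 nodeOK = true := by decide +kernel

theorem ok77 : allRange 14653 277 nodeOK = true := by decide +kernel

theorem ok78 : allRange 14930 187 nodeOK = true := by decide +kernel

theorem ok79 : allRange 15117 190 nodeOK = true := by decide +kernel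

end H24.Fi24Cover
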