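import Cfsg.Agent.H24.Fi24Cover.Defs

/-!
Checks of the labels of the triple cover on a range of nodes (generated).
-/

set_option autoImplicit false
set_option maxRecDepth 100000
set_option linter.all false
set_option Elab.async false

namespace H24.Fi24Cover

open H93.Coset

theorem ok80 : allRange 15307 196 nodeOK = true := by decide +kernel

theorem ok81 : allRange 15503 195 nodeOK = true := by decide +kernel

theorem ok82 : allRange 15698 213 nodeOK = true := by decide +kernel

theorem ok83 : allRange 15911 223 nodeOK = true := by decide +kernel

theorem ok84 : allRange 16134 242 nodeOK = true := by decide +kernel

theorem ok85 : allRange 16376 301 nodeOK = true := by decide +kernel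

theorem ok86 : allRange 16677 205 nodeOK = true := by decide +kernel

theorem ok87 : allRange 16882 190 nodeOK = true := by decide +kernel

theorem ok88 : allRange 17072 249 nodeOK = true := by decide +kernel

theorem ok89 : allRange 17321 247 nodeOK = true := by decide +kernel

theorem ok90 : allRange 17568 231 nodeOK = true := by decide +kernel

theorem ok91 : allRange 17799 237 nodeOK = true := by decide +kernel

theorem ok92 : allRange 18036 228 nodeOK = true := by decide +kernel

theorem ok93 : allRange 18264 194 nodeOK = true := by decide +kernel

theorem ok94 : allRange 18458 289 nodeOK = true := by decide +kernel

theorem ok95 : allRange 18747 342 nodeOK = true := by decide +kernel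

end H24.Fi24Cover
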