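import Cfsg.Agent.H24.Fi24Cover.Defs

/-!
Checks of the labels of the triple cover on a range of nodes (generated).
-/

set_option autoImplicit false
set_option maxRecDepth 100000
set_option linter.all false
set_option Elab.async false

namespace H24.Fi24Cover

open H93.Coset

theorem ok96 : allRange 19089 272 nodeOK = true := by decide +kernel

theorem ok97 : allRange 19361 175 nodeOK = true := by decide +kernel

theorem ok98 : allRange 19536 186 nodeOK = true := by decide +kernel

theorem ok99 : allRange 19722 194 nodeOK = true := by decide +kernel

theorem ok100 : allRange 19916 169 nodeOK = true := by decide +kernel

theorem ok101 : allRange 20085 237 nodeOK = true := by decide +kernel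

theorem ok102 : allRange 20322 197 nodeOK = true := by decide +kernel

theorem ok103 : allRange 20519 236 nodeOK = true := by decide +kernel

theorem ok104 : allRange 20755 321 nodeOK = true := by decide +kernel

theorem ok105 : allRange 21076 210 nodeOK = true := by decide +kernel

theorem ok106 : allRange 21286 310 nodeOK = true := by decide +kernel

theorem ok107 : allRange 21596 234 nodeOK = true := by decide +kernel

theorem ok108 : allRange 21830 221 nodeOK = true := by decide +kernel

theorem ok109 : allRange 22051 255 nodeOK = true := by decide +kernel

theorem ok110 : allRange 22306 293 nodeOK = true := by decide +kernel

theorem ok111 : allRange 22599 267 nodeOK = true := by decide +kernel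

end H24.Fi24Cover
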