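import Cfsg.Agent.H24.Fi24Cover.Defs

/-!
Checks of the labels of the triple cover on a range of nodes (generated).
-/

set_option autoImplicit false
set_option maxRecDepth 100000
set_option linter.all false
set_option Elab.async false

namespace H24.Fi24Cover

open H93.Coset

theorem ok112 : allRange 22866 282 nodeOK = true := by decide +kernel

theorem ok113 : allRange 23148 215 nodeOK = true := by decide +kernel

theorem ok114 : allRange 23363 252 nodeOK = true := by decide +kernel

theorem ok115 : allRange 23615 219 nodeOK = true := by decide +kernel

theorem ok116 : allRange 23834 280 nodeOK = true := by decide +kernel

theorem ok117 : allRange 24114 381 nodeOK = true := by decide +kernel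

theorem ok118 : allRange 24495 316 nodeOK = true := by decide +kernel

theorem ok119 : allRange 24811 213 nodeOK = true := by decide +kernel

theorem ok120 : allRange 25024 186 nodeOK = true := by decide +kernel

theorem ok121 : allRange 25210 240 nodeOK = true := by decide +kernel

theorem ok122 : allRange 25450 237 nodeOK = true := by decide +kernel

theorem ok123 : allRange 25687 215 nodeOK = true := by decide +kernel

theorem ok124 : allRange 25902 282 nodeOK = true := by decide +kernel

theorem ok125 : allRange 26184 217 nodeOK = true := by decide +kernel

theorem ok126 : allRange 26401 228 nodeOK = true := by decide +kernel

theorem ok127 : allRange 26629 254 nodeOK = true := by decide +kernel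

end H24.Fi24Cover
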