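import Cfsg.Agent.H24.Fi24Cover.Defs

/-!
Checks of the labels of the triple cover on a range of nodes (generated).
-/

set_option autoImplicit false
set_option maxRecDepth 100000
set_option linter.all false
set_option Elab.async false

namespace H24.Fi24Cover

open H93.Coset

theorem ok128 : allRange 26883 356 nodeOK = true := by decide +kernel

theorem ok129 : allRange 27239 244 nodeOK = true := by decide +kernel

theorem ok130 : allRange 27483 367 nodeOK = true := by decide +kernel

theorem ok131 : allRange 27850 286 nodeOK = true := by decide +kernel

theorem ok132 : allRange 28136 283 nodeOK = true := by decide +kernel

theorem ok133 : allRange 28419 289 nodeOK = true := by decide +kernel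

theorem ok134 : allRange 28708 288 nodeOK = true := by decide +kernel

theorem ok135 : allRange 28996 289 nodeOK = true := by decide +kernel

theorem ok136 : allRange 29285 310 nodeOK = true := by decide +kernel

theorem ok137 : allRange 29595 270 nodeOK = true := by decide +kernel

theorem ok138 : allRange 29865 348 nodeOK = true := by decide +kernel

theorem ok139 : allRange 30213 306 nodeOK = true := by decide +kernel

theorem ok140 : allRange 30519 290 nodeOK = true := by decide +kernel

theorem ok141 : allRange 30809 349 nodeOK = true := by decide +kernel

theorem ok142 : allRange 31158 423 nodeOK = true := by decide +kernel

theorem ok143 : allRange 31581 324 nodeOK = true := by decide +kernel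

end H24.Fi24Cover
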