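import Cfsg.Agent.H24.Fi24Cover.Defs

/-!
Checks of the labels of the triple cover on a range of nodes (generated).
-/

set_option autoImplicit false
set_option maxRecDepth 100000
set_option linter.all false
set_option Elab.async false

namespace H24.Fi24Cover

open H93.Coset

theorem ok144 : allRange 31905 268 nodeOK = true := by decide +kernel

theorem ok145 : allRange 32173 242 nodeOK = true := by decide +kernel

theorem ok146 : allRange 32415 289 nodeOK = true := by decide +kernel

theorem ok147 : allRange 32704 288 nodeOK = true := by decide +kernel

theorem ok148 : allRange 32992 216 nodeOK = true := by decide +kernel

theorem ok149 : allRange 33208 345 nodeOK = true := by decide +kernel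

theorem ok150 : allRange 33553 234 nodeOK = true := by decide +kernel

theorem ok151 : allRange 33787 270 nodeOK = true := by decide +kernel

theorem ok152 : allRange 34057 273 nodeOK = true := by decide +kernel

theorem ok153 : allRange 34330 307 nodeOK = true := by decide +kernel

theorem ok154 : allRange 34637 404 nodeOK = true := by decide +kernel

theorem ok155 : allRange 35041 378 nodeOK = true := by decide +kernel

theorem ok156 : allRange 35419 368 nodeOK = true := by decide +kernel

theorem ok157 : allRange 35787 289 nodeOK = true := by decide +kernel

theorem ok158 : allRange 36076 339 nodeOK = true := by decide +kernel

theorem ok159 : allRange 36415 451 nodeOK = true := by decide +kernel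

end H24.Fi24Cover
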