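import Cfsg.Agent.H24.Fi24Cover.Chk0
import Cfsg.Agent.H24.Fi24Cover.Chk1
import Cfsg.Agent.H24.Fi24Cover.Chk2
import Cfsg.Agent.H24.Fi24Cover.Chk3
import Cfsg.Agent.H24.Fi24Cover.Chk4
import Cfsg.Agent.H24.Fi24Cover.Chk5
import Cfsg.Agent.H24.Fi24Cover.Chk6
import Cfsg.Agent.H24.Fi24Cover.Chk7
import Cfsg.Agent.H24.Fi24Cover.Chk8
import Cfsg.Agent.H24.Fi24Cover.Chk9
import Cfsg.Agent.H24.Fi24Cover.Chk10
import Cfsg.Agent.H24.Fi24Cover.Chk11
import Cfsg.Agent.H24.Fi24Cover.Chk12
import Cfsg.Agent.H24.Fi24Cover.Chk13
import Cfsg.Agent.H24.Fi24Cover.Chk14
import Cfsg.Agent.H24.Fi24Cover.Chk15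
import Cfsg.Agent.H24.Fi24Cover.Chk16
import Cfsg.Agent.H24.Fi24Cover.Chk17
import Cfsg.Agent.H24.Fi24Cover.Chk18
import Cfsg.Agent.H24.Fi24Cover.Chk19
import Cfsg.Agent.H24.Fi24Cover.Chk20
import Cfsg.Agent.H24.Fi24Cover.Chk21
import Cfsg.Agent.H24.Fi24Cover.Chk22
import Cfsg.Agent.H24.Fi24Cover.Chk23

/-!
Assembled checks of the labels of the triple cover (generated).
-/

set_option autoImplicit false
set_option maxRecDepth 100000
set_option linter.all false

namespace H24.Fi24Cover

open H93.Coset

attribute [local irreducible] allRange nodeOK

theorem ok_all : allRange 0 306936 nodeOK = true :=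
  (allRange_glue (allRange_glue (allRange_glue (allRange_glue (allRange_glue (allRange_glue (allRange_glue (allRange_glue (allRange_glue (allRange_glue (allRange_glue (allRange_glue (allRange_glue (allRange_glue (allRange_glue (allRange_glue (allRange_glue (allRange_glue (allRange_glue (allRange_glue (allRange_glue (allRange_glue (allRange_glue (allRange_glue (allRange_glue (allRange_glue (allRange_glue (allRange_glue (allRange_glue (allRange_glue (allRange_glue (allRange_glue (allRange_glue (allRange_glue (allRange_glue (allRange_glue (allRange_glue (allRange_glue (allRange_glue (allRange_glue (allRange_glue (allRange_glue (allRange_glue (allRange_glue (allRange_glue (allRange_glue (allRange_glue (allRange_glue (allRange_glue (allRange_glue (allRange_glue (allRange_glue (allRange_glue (allRange_glue (allRange_glue (allRange_glue (allRange_glue (allRange_glue (allRange_glue (allRange_glue (allRange_glue (allRange_glue (allRange_glue (allRange_glue (allRange_glue (allRange_glue (allRange_glue (allRange_glue (allRange_glue (allRange_glue (allRange_glue (allRange_glue (allRange_glue (allRange_glue (allRange_glue (allRange_glue (allRange_glue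 (allRange_glue (allRange_glue (allRange_glue (allRange_glue (allRange_glue (allRange_glue (allRange_glue (allRange_glue (allRange_glue (allRange_glue (allRange_glue (allRange_glue (allRange_glue (allRange_glue (allRange_glue (allRange_glue (allRange_glue (allRange_glue (allRange_glue (allRange_glue (allRange_glue (allRange_glue (allRange_glue (allRange_glue (allRange_glue (allRange_glue (allRange_glue (allRange_glue (allRange_glue (allRange_glue (allRange_glue (allRange_glue (allRange_glue (allRange_glue (allRange_glue (allRange_glue (allRange_glue (allRange_glue (allRange_glue (allRange_glue (allRange_glue (allRange_glue (allRange_glue (allRange_glue (allRange_glue (allRange_glue (allRange_glue (allRange_glue (allRange_glue (allRange_glue (allRange_glue (allRange_glue (allRange_glue (allRange_glue (allRange_glue (allRange_glue (allRange_glue (allRange_glue (allRange_glue (allRange_glue (allRange_glue (allRange_glue (allRange_glue (allRange_glue (allRange_glue (allRange_glue (allRange_glue (allRange_glue (allRange_glue (allRange_glue (allRange_glue (allRange_glue (allRange_glue (allRange_glue (allRange_glue (allRange_glue (allRange_glue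 (allRange_glue (allRange_glue (allRange_glue (allRange_glue (allRange_glue (allRange_glue (allRange_glue (allRange_glue (allRange_glue (allRange_glue (allRange_glue (allRange_glue (allRange_glue (allRange_glue (allRange_glue (allRange_glue (allRange_glue (allRange_glue (allRange_glue (allRange_glue (allRange_glue (allRange_glue (allRange_glue (allRange_glue (allRange_glue (allRange_glue (allRange_glue (allRange_glue (allRange_glue (allRange_glue (allRange_glue (allRange_glue (allRange_glue (allRange_glue (allRange_glue (allRange_glue (allRange_glue (allRange_glue (allRange_glue (allRange_glue (allRange_glue (allRange_glue (allRange_glue (allRange_glue (allRange_glue (allRange_glue (allRange_glue (allRange_glue (allRange_glue (allRange_glue (allRange_glue (allRange_glue (allRange_glue (allRange_glue (allRange_glue (allRange_glue (allRange_glue (allRange_glue (allRange_glue (allRange_glue (allRange_glue (allRange_glue (allRange_glue (allRange_glue (allRange_glue (allRange_glue (allRange_glue (allRange_glue (allRange_glue (allRange_glue (allRange_glue (allRange_glue (allRange_glue (allRange_glue (allRange_glue (allRange_glue (allRange_glue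 (allRange_glue (allRange_glue (allRange_glue (allRange_glue (allRange_glue (allRange_glue (allRange_glue (allRange_glue (allRange_glue (allRange_glue (allRange_glue (allRange_glue (allRange_glue (allRange_glue (allRange_glue (allRange_glue (allRange_glue (allRange_glue (allRange_glue (allRange_glue (allRange_glue (allRange_glue (allRange_glue (allRange_glue (allRange_glue (allRange_glue (allRange_glue (allRange_glue (allRange_glue (allRange_glue (allRange_glue (allRange_glue (allRange_glue (allRange_glue (allRange_glue (allRange_glue (allRange_glue (allRange_glue (allRange_glue (allRange_glue (allRange_glue (allRange_glue (allRange_glue (allRange_glue (allRange_glue (allRange_glue (allRange_glue (allRange_glue (allRange_glue (allRange_glue (allRange_glue (allRange_glue (allRange_glue (allRange_glue (allRange_glue (allRange_glue (allRange_glue (allRange_glue (allRange_glue (allRange_glue (allRange_glue (allRange_glue (allRange_glue (allRange_glue (allRange_glue (allRange_glue (allRange_glue (allRange_glue (allRange_glue (allRange_glue (allRange_glue (allRange_glue (allRange_glue (allRange_glue (allRange_glue (allRange_glue (allRange_glue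 (allRange_glue (allRange_glue (allRange_glue (allRange_glue (allRange_glue (allRange_glue (allRange_glue (allRange_glue (allRange_glue (allRange_glue (allRange_glue (allRange_glue (allRange_glue (allRange_glue (allRange_glue (allRange_glue (allRange_glue (allRange_glue (allRange_glue (allRange_glue (allRange_glue (allRange_glue (allRange_glue (allRange_glue (allRange_glue (allRange_glue (allRange_glue (allRange_glue (allRange_glue (allRange_glue (allRange_glue (allRange_glue (allRange_glue (allRange_glue (allRange_glue (allRange_glue (allRange_glue (allRange_glue (allRange_glue (allRange_glue (allRange_glue (allRange_glue (allRange_glue (allRange_glue (allRange_glue (allRange_glue (allRange_glue (allRange_glue (allRange_glue (allRange_glue (allRange_glue (allRange_glue (allRange_glue (allRange_glue (allRange_glue (allRange_glue (allRange_glue (allRange_glue (allRange_glue (allRange_glue (allRange_glue (allRange_glue (allRange_glue (allRange_glue (allRange_glue (allRange_glue (allRange_glue (allRange_glue (allRange_glue (allRange_glue (allRange_glue (allRange_glue (allRange_glue (allRange_glue (allRange_glue ok0 ok1) ok2) ok3)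 ok4) ok5) ok6) ok7) ok8) ok9) ok10) ok11) ok12) ok13) ok14) ok15) ok16) ok17) ok18) ok19) ok20) ok21) ok22) ok23) ok24) ok25) ok26) ok27) ok28) ok29) ok30) ok31) ok32) ok33) ok34) ok35) ok36) ok37) ok38) ok39) ok40) ok41) ok42) ok43) ok44) ok45) ok46) ok47) ok48) ok49) ok50) ok51) ok52) ok53) ok54) ok55) ok56) ok57) ok58) ok59) ok60) ok61) ok62) ok63) ok64) ok65) ok66) ok67) ok68) ok69) ok70) ok71) ok72) ok73) ok74) ok75) ok76) ok77) ok78) ok79) ok80) ok81) ok82) ok83) ok84) ok85) ok86) ok87) ok88) ok89) ok90) ok91) ok92) ok93) ok94) ok95) ok96) ok97) ok98) ok99) ok100) ok101) ok102) ok103) ok104) ok105) ok106) ok107) ok108) ok109) ok110) ok111) ok112) ok113) ok114) ok115) ok116) ok117) ok118) ok119) ok120) ok121) ok122) ok123) ok124) ok125) ok126) ok127) ok128) ok129) ok130) ok131) ok132) ok133) ok134) ok135) ok136) ok137) ok138) ok139) ok140) ok141) ok142) ok143) ok144) ok145) ok146) ok147) ok148) ok149) ok150) ok151) ok152) ok153) ok154) ok155) ok156) ok157) ok158) ok159) ok160) ok161) ok162) ok163) ok164) ok165) ok166) ok167) ok168) ok169) ok170) ok171) ok172) ok173) ok174) ok175) ok176) ok177) ok178) ok179) ok180) ok181)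 ok182) ok183) ok184) ok185) ok186) ok187) ok188) ok189) ok190) ok191) ok192) ok193) ok194) ok195) ok196) ok197) ok198) ok199) ok200) ok201) ok202) ok203) ok204) ok205) ok206) ok207) ok208) ok209) ok210) ok211) ok212) ok213) ok214) ok215) ok216) ok217) ok218) ok219) ok220) ok221) ok222) ok223) ok224) ok225) ok226) ok227) ok228) ok229) ok230) ok231) ok232) ok233) ok234) ok235) ok236) ok237) ok238) ok239) ok240) ok241) ok242) ok243) ok244) ok245) ok246) ok247) ok248) ok249) ok250) ok251) ok252) ok253) ok254) ok255) ok256) ok257) ok258) ok259) ok260) ok261) ok262) ok263) ok264) ok265) ok266) ok267) ok268) ok269) ok270) ok271) ok272) ok273) ok274) ok275) ok276) ok277) ok278) ok279) ok280) ok281) ok282) ok283) ok284) ok285) ok286) ok287) ok288) ok289) ok290) ok291) ok292) ok293) ok294) ok295) ok296) ok297) ok298) ok299) ok300) ok301) ok302) ok303) ok304) ok305) ok306) ok307) ok308) ok309) ok310) ok311) ok312) ok313) ok314) ok315) ok316) ok317) ok318) ok319) ok320) ok321) ok322) ok323) ok324) ok325) ok326) ok327) ok328) ok329) ok330) ok331) ok332) ok333) ok334) ok335) ok336) ok337) ok338) ok339) ok340) ok341) ok342) ok343) ok344) ok345)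 ok346) ok347) ok348) ok349) ok350) ok351) ok352) ok353) ok354) ok355) ok356) ok357) ok358) ok359) ok360) ok361) ok362) ok363) ok364) ok365) ok366) ok367) ok368) ok369) ok370) ok371) ok372) ok373) ok374) ok375) ok376) ok377) ok378) ok379) ok380) ok381) ok382) ok383)

end H24.Fi24Cover
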