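import Cfsg.Agent.H24.Fi24Cover.Defs

/-!
Checks of the labels of the triple cover on a range of nodes (generated).
-/

set_option autoImplicit false
set_option maxRecDepth 100000
set_option linter.all false
set_option Elab.async false

namespace H24.Fi24Cover

open H93.Coset

theorem ok0 : allRange 0 127 nodeOK = true := by decide +kernel

theorem ok1 : allRange 127 144 nodeOK = true := by decide +kernel

theorem ok2 : allRange 271 145 nodeOK = true := by decide +kernel

theorem ok3 : allRange 416 147 nodeOK = true := by decide +kernel

theorem ok4 : allRange 563 169 nodeOK = true := by decide +kernel

theorem ok5 : allRange 732 153 nodeOK = true := by decide +kernel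

theorem ok6 : allRange 885 167 nodeOK = true := by decide +kernel

theorem ok7 : allRange 1052 157 nodeOK = true := by decide +kernel

theorem ok8 : allRange 1209 173 nodeOK = true := by decide +kernel

theorem ok9 : allRange 1382 133 nodeOK = true := by decide +kernel

theorem ok10 : allRange 1515 148 nodeOK = true := by decide +kernel

theorem ok11 : allRange 1663 142 nodeOK = true := by decide +kernel

theorem ok12 : allRange 1805 186 nodeOK = true := by decide +kernel

theorem ok13 : allRange 1991 123 nodeOK = true := by decide +kernel

theorem ok14 : allRange 2114 147 nodeOK = true := by decide +kernel

theorem ok15 : allRange 2261 151 nodeOK = true := by decide +kernel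

end H24.Fi24Cover
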