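import Cfsg.Agent.H24.Fi24Cover.Defs

/-!
Checks of the labels of the triple cover on a range of nodes (generated).
-/

set_option autoImplicit false
set_option maxRecDepth 100000
set_option linter.all false
set_option Elab.async false

namespace H24.Fi24Cover

open H93.Coset

theorem ok240 : allRange 74243 727 nodeOK = true := by decide +kernel

theorem ok241 : allRange 74970 653 nodeOK = true := by decide +kernel

theorem ok242 : allRange 75623 708 nodeOK = true := by decide +kernel

theorem ok243 : allRange 76331 760 nodeOK = true := by decide +kernel

theorem ok244 : allRange 77091 723 nodeOK = true := by decide +kernel

theorem ok245 : allRange 77814 777 nodeOK = true := by decide +kernel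

theorem ok246 : allRange 78591 677 nodeOK = true := by decide +kernel

theorem ok247 : allRange 79268 658 nodeOK = true := by decide +kernel

theorem ok248 : allRange 79926 671 nodeOK = true := by decide +kernel

theorem ok249 : allRange 80597 621 nodeOK = true := by decide +kernel

theorem ok250 : allRange 81218 819 nodeOK = true := by decide +kernel

theorem ok251 : allRange 82037 668 nodeOK = true := by decide +kernel

theorem ok252 : allRange 82705 622 nodeOK = true := by decide +kernel

theorem ok253 : allRange 83327 579 nodeOK = true := by decide +kernel

theorem ok254 : allRange 83906 690 nodeOK = true := by decide +kernel

theorem ok255 : allRange 84596 488 nodeOK = true := by decide +kernel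

end H24.Fi24Cover
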