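import Cfsg.Agent.H24.Fi24Cover.Lift

/-!
The two long relators act on the triple cover by constant shifts.
-/

set_option autoImplicit false
set_option maxRecDepth 100000
set_option linter.unusedSectionVars false

namespace H24.Fi24Cover

open H93.Coset H47.Fi24

attribute [local irreducible] Tab.raChunk Tab.rbChunk Tab.weChunk Tab.wzChunk labChunk σ

variable (K : Checked)
include K

/-- the shift of all fibres -/
def tau (t : ZMod 3) : Equiv.Perm Pt where
  toFun p := (p.1, p.2 + t)
  invFun p := (p.1, p.2 - t)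
  left_inv p := by simp
  right_inv p := by simp

theorem σ_commute {g h : ℕ} (hg : g < 12) (hh : h < 12) (he : edgeExp g h = 2) :
    Commute (σ g) (σ h) := by
  by_cases hne : g = h
  · rw [hne]
  have h1 : (σ h * σ g) * (σ h * σ g) = 1 := by
    refine Equiv.ext fun p => ?_
    have := fixF_all K hg hh hne p.1.2 p rfl
    rw [he, pow_two] at this
    exact this
  have h2 : σ h * σ g = σ g * σ h := by
    rw [← inv_eq_of_mul_eq_one_right h1, mul_inv_rev, inv_eq_of_mul_eq_one_right (σ_sq K hg),
      inv_eq_of_mul_eq_one_right (σ_sq K hh)]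
  exact h2.symm

theorem descends_spec {W : ℕ → ℕ} : ∀ (k : ℕ) {c x : ℕ}, descends W k c x = true →
    ∃ j, 0 < j ∧ W^[j] x < c := by
  intro k
  induction k with
  | zero => intro c x h; simp [descends] at h
  | succ k ih =>
    intro c x h
    change force (W x) (fun y => Big.sel (Nat.ble (Nat.succ y) c) true (descends W k c y)) = true at h
    rw [force_eq] at h
    rcases hb : Nat.ble (Nat.succ (W x)) c with _ | _
    · rw [hb, sel_false] at h
      obtain ⟨j, hj, hlt⟩ := ih h
      exact ⟨j + 1, by omega, by rwa [Function.iterate_succ_apply]⟩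
    · exact ⟨1, one_pos, by have := Nat.le_of_ble_eq_true hb; rw [Function.iterate_one]; omega⟩

/-- a word whose value is invariant up to a map fixing the target along the cycles of a commuting
word is constant, once checked at the least node of each cycle -/
theorem const_of_cyc {W : ℕ → ℕ} {u w : List ℕ} {t : ℕ} (hu : ∀ g ∈ u, g < 12)
    (hw : ∀ g ∈ w, g < 12) (hk : known w = true) (hl : Even w.length)
    (hW : ∀ c < Tab.data.n, pathEnd Tab.data.T u c = W c)
    (hcomm : Commute (ev σ w) (ev σ u))
    (ht : (-1 : ZMod 3) ^ u.length * (t : ZMod 3) = (t : ZMod 3))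
    (hchk : ∀ c < Tab.data.n, cycOK W w t c = true) :
    ev σ w = tau (t : ZMod 3) := by
  have hWlt : ∀ c < Tab.data.n, W c < Tab.data.n := fun c hc =>
    hW c hc ▸ pathEnd_lt Tab.tables u hu hc
  have hval : ∀ c : Fin Tab.data.n, ∀ i, ev σ w (c, i) = (c, i + val w c) :=
    fun c i => ev_fix_iff K hw hl (word_end K hk c) i
  have hinv : ∀ c (hc : c < Tab.data.n), val w ⟨W c, hWlt c hc⟩ = (t : ZMod 3) →
      val w ⟨c, hc⟩ = (t : ZMod 3) := by
    intro c hc h
    set p : Pt := (⟨c, hc⟩, 0) with hp
    have e := congrArg (fun g : Equiv.Perm Pt => g p) hcomm.eq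
    simp only [Equiv.Perm.mul_apply] at e
    obtain ⟨a1, a2⟩ := ev_shift K u hu ⟨c, hc⟩ (val w ⟨c, hc⟩)
    have hend : (ev σ u p).1 = ⟨W c, hWlt c hc⟩ := by
      refine Fin.ext ?_
      have := (ev_zero K u hu ⟨c, hc⟩ 0).1
      rw [Nat.cast_zero] at this
      rw [hp, this]
      exact hW c hc
    have e2 := congrArg Prod.snd e
    rw [show ev σ u p = ((ev σ u p).1, (ev σ u p).2) from rfl, hval, hend, h, hp, hval, zero_add,
      a2] at e2
    simp only at e2
    have e3 : (-1 : ZMod 3) ^ u.length * val w ⟨c, hc⟩ = (t : ZMod 3) := by linear_combination -e2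
    have hs : (-1 : ZMod 3) ^ u.length * (-1) ^ u.length = 1 := by
      rw [← pow_add, Even.neg_one_pow ⟨u.length, rfl⟩]
    calc val w ⟨c, hc⟩ = (-1 : ZMod 3) ^ u.length * ((-1) ^ u.length * val w ⟨c, hc⟩) := by
          rw [← mul_assoc, hs, one_mul]
      _ = _ := by rw [e3, ht]
  have hall : ∀ c (hc : c < Tab.data.n), val w ⟨c, hc⟩ = (t : ZMod 3) := by
    intro c
    induction c using Nat.strong_induction_on with
    | _ c ih =>
      intro hc
      have h := hchk c hc
      simp only [cycOK] at h
      rcases hd : descends W 17 c c with _ | _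
      · rw [hd, sel_false, walkS_eq] at h
        rw [val_eq K hw, Nat.eq_of_beq_eq_true h]
      · obtain ⟨j, -, hlt⟩ := descends_spec K 17 hd
        have hback : ∀ j x (hx : x < Tab.data.n), W^[j] x < c → val w ⟨x, hx⟩ = (t : ZMod 3) := by
          intro j
          induction j with
          | zero => intro x hx h'; exact ih x h' hx
          | succ j ihj =>
            intro x hx h'
            rw [Function.iterate_succ_apply] at h'
            exact hinv x hx (ihj _ (hWlt x hx) h')
        exact hback j c hc hlt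
  refine Equiv.ext fun p => ?_
  obtain ⟨⟨c, hc⟩, i⟩ := p
  rw [hval, hall c hc]
  rfl

theorem eWord_facts : known eWord = true ∧ (∀ g ∈ eWord, g < 12) ∧ eWord.length = 64 ∧
    ∀ g ∈ [8, 5, 0, 1, 2, 3, 4], g < 12 ∧ edgeExp 10 g = 2 := by decide +kernel

theorem zWord_facts : known zWord = true ∧ (∀ g ∈ zWord, g < 12) ∧ zWord.length = 238 := by
  decide +kernel

theorem ev_eWord : ev σ eWord = tau 0 := by
  obtain ⟨hk, hw, hl, hu⟩ := eWord_facts K
  have hW : ∀ c < Tab.data.n, pathEnd Tab.data.T [8, 5, 0, 1, 2, 3, 4] c = Tab.pwE c := by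
    intro c hc
    have h := allRange_spec Tab.pe_all c (Nat.zero_le _) (by rw [Nat.zero_add]; exact hc)
    simp only [walk_eq, Bool.and_eq_true] at h
    exact Nat.eq_of_beq_eq_true h.1
  have hc10 : Commute (σ 10) (ev σ [8, 5, 0, 1, 2, 3, 4]) := by
    simp only [ev, one_mul]
    have hc : ∀ g ∈ [8, 5, 0, 1, 2, 3, 4], Commute (σ 10) (σ g) :=
      fun g hg => σ_commute K (by norm_num) (hu g hg).1 (hu g hg).2
    exact (((((((hc 4 (by simp))).mul_right (hc 3 (by simp))).mul_right (hc 2 (by simp))).mul_right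
      (hc 1 (by simp))).mul_right (hc 0 (by simp))).mul_right (hc 5 (by simp))).mul_right
      (hc 8 (by simp))
  have hcomm : Commute (ev σ eWord) (ev σ [8, 5, 0, 1, 2, 3, 4]) := by
    rw [eWord, ev_append, ev_expand, show ev σ [10] = σ 10 by simp [ev]]
    exact hc10.mul_left ((Commute.refl _).pow_left 9)
  have := const_of_cyc K (W := Tab.pwE) (t := 0) (fun g hg => (hu g hg).1) hw hk
    (by rw [hl]; decide) hW hcomm (by simp) K.cycE
  simpa using this

theorem ev_zWord : ev σ zWord = tau 1 := by
  obtain ⟨hk, hw, hl⟩ := zWord_facts K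
  have hW : ∀ c < Tab.data.n,
      pathEnd Tab.data.T [6, 4, 1, 9, 7, 3, 2, 1, 10, 11, 8, 5, 0, 1] c = Tab.pwZ c := by
    intro c hc
    have h := allRange_spec Tab.pz_all c (Nat.zero_le _) (by rw [Nat.zero_add]; exact hc)
    simp only [walk_eq, Bool.and_eq_true] at h
    exact Nat.eq_of_beq_eq_true h.1
  have hcomm : Commute (ev σ zWord) (ev σ [6, 4, 1, 9, 7, 3, 2, 1, 10, 11, 8, 5, 0, 1]) := by
    rw [zWord, ev_expand]; exact (Commute.refl _).pow_left 17
  have := const_of_cyc K (W := Tab.pwZ) (t := 1) (by decide) hw hk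
    (by rw [hl]; decide) hW hcomm
    (by simp only [List.length_cons, List.length_nil]; norm_num) K.cycZ
  simpa using this

theorem ev_pairWord {g h : ℕ} (hg : g < 12) (hh : h < 12) (hne : g ≠ h) :
    ev σ (pairWord g h) = tau 0 := by
  rw [ev_pair K]
  exact Equiv.ext fun p => (fixF_all K hg hh hne p.1.2 p rfl).trans (Prod.ext rfl (add_zero _).symm)

end H24.Fi24Cover
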