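import Cfsg.Agent.H47.Fi24.Tab.RelDef
import Cfsg.Agent.H24.Fi24Cover.LabData

/-!
Edge labels modulo 3 on the coset table of Fi24 and the checks that they define a triple cover.
-/

set_option autoImplicit false
set_option maxRecDepth 100000

namespace H24.Fi24Cover

open H93.Coset H47.Fi24

noncomputable section

/-- `0`, or generator number plus one plus sixteen times the label of that edge -/
def code (c : ℕ) : ℕ :=
  Nat.land (Nat.shiftRight (labChunk (Nat.div c 1024)) (Nat.mul 6 (Nat.mod c 1024))) 63

/-- label read off a code -/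
def codeLab (x g : ℕ) : ℕ := Big.sel (Nat.beq (Nat.land x 15) (Nat.succ g)) (Nat.div x 16) 0

/-- label of an edge -/
def lab (g c : ℕ) : ℕ := codeLab (code c) g

/-- the end of a path and its accumulated label -/
def walkS (w : List ℕ) (c acc : ℕ) (k : ℕ → ℕ → Bool) : Bool :=
  List.rec (motive := fun _ => ℕ → ℕ → Bool) k
    (fun g _ ih c acc => force (Nat.mod (Nat.add (Nat.mul 2 acc) (lab g c)) 3) fun a =>
      force (Tab.data.T g c) fun d => ih d a) w c acc

/-- the exponent of a product of two generators -/
def edgeExp (g h : ℕ) : ℕ :=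
  Big.sel ([(10, 11), (11, 8), (8, 5), (5, 0), (0, 1), (1, 2), (1, 4), (2, 3), (3, 7), (7, 9), (4, 6)].any
    fun p => Big.ba (Nat.beq p.1 g) (Nat.beq p.2 h) || Big.ba (Nat.beq p.2 g) (Nat.beq p.1 h)) 3 2

/-- the relator of two generators -/
def pairWord (g h : ℕ) : List ℕ := expand ([g, h], edgeExp g h)

/-- checks at a labelled edge -/
def labEdge (c x g : ℕ) : Bool :=
  force (Tab.data.T g c) fun d =>
    Big.ba (Nat.ble (Nat.succ g) 12) (Big.ba (Nat.beq (code d) x) (Big.sel (Nat.ble (Nat.succ d) c) true
      (allRange 0 12 fun h => Big.sel (Nat.beq h g) true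
        (walkS (pairWord g h) c 0 fun _ a => Nat.beq a 0))))

/-- check at a node: a labelled edge is symmetric and closes with every other generator -/
def pairOK (c : ℕ) : Bool :=
  force (code c) fun x => Big.sel (Nat.beq x 0) true (labEdge c x (Nat.sub (Nat.land x 15) 1))

/-- some early iterate of `W` at `x` is smaller than `c` -/
def descends (W : ℕ → ℕ) (k c x : ℕ) : Bool :=
  Nat.rec (motive := fun _ => ℕ → Bool) (fun _ => false)
    (fun _ ih x => force (W x) fun y => Big.sel (Nat.ble (Nat.succ y) c) true (ih y)) k x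

/-- check of a power relator at a node, at the least node of each cycle only -/
def cycOK (W : ℕ → ℕ) (w : List ℕ) (t c : ℕ) : Bool :=
  Big.sel (descends W 17 c c) true (walkS w c 0 fun _ a => Nat.beq a t)

/-- the word of the first long relator -/
def eWord : List ℕ := expand ([8, 5, 0, 1, 2, 3, 4], 9) ++ [10]

/-- the word of the central relator -/
def zWord : List ℕ := expand ([6, 4, 1, 9, 7, 3, 2, 1, 10, 11, 8, 5, 0, 1], 17)

/-- all checks at a node -/
def nodeOK (c : ℕ) : Bool :=
  Big.ba (pairOK c) (Big.ba (cycOK Tab.pwE eWord 0 c) (cycOK Tab.pwZ zWord 1 c))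

end

end H24.Fi24Cover
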