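import Cfsg.Agent.H24.Fi24Cover.Defs
import Cfsg.Agent.H47.Fi24.Rels

/-!
The permutations of the triple cover of the table of Fi24 and their relations.
-/

set_option autoImplicit false
set_option maxRecDepth 100000
set_option linter.unusedSectionVars false

namespace H24.Fi24Cover

open H93.Coset H47.Fi24

attribute [local irreducible] Tab.raChunk Tab.rbChunk Tab.weChunk Tab.wzChunk labChunk

/-- the points of the cover -/
abbrev Pt : Type := Fin Tab.data.n × ZMod 3

/-- the label of an edge modulo three -/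
noncomputable def lz (g c : ℕ) : ZMod 3 := (lab g c : ZMod 3)

theorem closed {g c : ℕ} (hg : g < 12) (hc : c < Tab.data.n) :
    Tab.data.T g c < Tab.data.n ∧ Tab.data.T g (Tab.data.T g c) = c :=
  Tab.tables.closed hg hc

theorem sel_true {α : Type} (a b : α) : Big.sel true a b = a := rfl

theorem sel_false {α : Type} (a b : α) : Big.sel false a b = b := rfl

/-- the permutation of a generator: odd, so it inverts the fibre shift -/
noncomputable def σ (g : ℕ) : Equiv.Perm Pt :=
  haveI := Classical.propDecidable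
  if h : ∀ c : Fin Tab.data.n, ∃ hb : Tab.data.T g c < Tab.data.n,
      Tab.data.T g (Tab.data.T g c) = c ∧ lab g (Tab.data.T g c) = lab g c then
    { toFun := fun p => (⟨Tab.data.T g p.1, (h p.1).1⟩, -p.2 + lz g p.1)
      invFun := fun p => (⟨Tab.data.T g p.1, (h p.1).1⟩, -p.2 + lz g p.1)
      left_inv := fun p => Prod.ext (Fin.ext (h p.1).2.1) (by
        show -(-p.2 + lz g p.1) + lz g (Tab.data.T g p.1) = p.2
        simp only [lz, (h p.1).2.2]
        abel)
      right_inv := fun p => Prod.ext (Fin.ext (h p.1).2.1) (by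
        show -(-p.2 + lz g p.1) + lz g (Tab.data.T g p.1) = p.2
        simp only [lz, (h p.1).2.2]
        abel) }
  else 1

/-- end and accumulated label of a path -/
noncomputable def endS : List ℕ → ℕ → ℕ → ℕ × ℕ
  | [], c, a => (c, a)
  | g :: w, c, a => endS w (Tab.data.T g c) ((2 * a + lab g c) % 3)

theorem walkS_eq (w : List ℕ) (c a : ℕ) (k : ℕ → ℕ → Bool) :
    walkS w c a k = k (endS w c a).1 (endS w c a).2 := by
  induction w generalizing c a with
  | nil => rfl
  | cons g w ih =>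
    show force (Nat.mod (Nat.add (Nat.mul 2 a) (lab g c)) 3) (fun a' =>
      force (Tab.data.T g c) fun d => walkS w d a' k) = _
    simp only [force_eq]
    exact ih _ _

theorem endS_fst (w : List ℕ) (c a : ℕ) : (endS w c a).1 = pathEnd Tab.data.T w c := by
  induction w generalizing c a with
  | nil => rfl
  | cons g w ih => exact ih _ _

theorem endS_lt (w : List ℕ) (c a : ℕ) (ha : a < 3) : (endS w c a).2 < 3 := by
  induction w generalizing c a with
  | nil => exact ha
  | cons g w ih => exact ih _ _ (Nat.mod_lt _ (by norm_num))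

/-- everything that follows from the checks at the nodes -/
structure Checked : Prop where
  pairs : ∀ c < Tab.data.n, pairOK c = true
  cycE : ∀ c < Tab.data.n, cycOK Tab.pwE eWord 0 c = true
  cycZ : ∀ c < Tab.data.n, cycOK Tab.pwZ zWord 1 c = true

section
attribute [local irreducible] allRange nodeOK

theorem node_of_all (h : allRange 0 306936 nodeOK = true) (c : ℕ) (hc : c < 306936) :
    nodeOK c = true :=
  allRange_spec (lo := 0) (len := 306936) (f := nodeOK) h c (Nat.zero_le c)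
    (by rw [Nat.zero_add]; exact hc)

end

theorem data_n : Tab.data.n = 306936 := rfl

theorem checked_of_all (h : allRange 0 306936 nodeOK = true) : Checked := by
  have h' : ∀ c < Tab.data.n, nodeOK c = true := fun c hc => node_of_all h c (data_n ▸ hc)
  have h2 : ∀ c < Tab.data.n,
      pairOK c = true ∧ cycOK Tab.pwE eWord 0 c = true ∧ cycOK Tab.pwZ zWord 1 c = true := by
    intro c hc
    have := h' c hc
    rw [nodeOK, Big.ba_eq, Big.ba_eq, Bool.and_eq_true, Bool.and_eq_true] at this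
    exact this
  exact ⟨fun c hc => (h2 c hc).1, fun c hc => (h2 c hc).2.1, fun c hc => (h2 c hc).2.2⟩

/-- a non-zero label shows up in the code -/
theorem code_of_lab {g c : ℕ} (h : lab g c ≠ 0) : code c ≠ 0 ∧ Nat.land (code c) 15 = g + 1 := by
  simp only [lab, codeLab] at h
  rcases hb : Nat.beq (Nat.land (code c) 15) (Nat.succ g) with _ | _
  · rw [hb, sel_false] at h; exact absurd rfl h
  · have e := Nat.eq_of_beq_eq_true hb
    refine ⟨fun h0 => ?_, e⟩
    rw [h0] at h e
    simp at e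

theorem pair_known : ∀ g < 12, ∀ h < 12, g ≠ h → known (pairWord g h) = true := by decide +kernel

theorem pair_even : ∀ g < 12, ∀ h < 12, Even (pairWord g h).length ∧
    (∀ x ∈ pairWord g h, x < 12) ∧ edgeExp g h = edgeExp h g ∧
    (edgeExp g h = 2 ∨ edgeExp g h = 3) := by decide +kernel

variable (K : Checked)
include K

theorem labEdge_spec {g c : ℕ} (hc : c < Tab.data.n) (h : lab g c ≠ 0) :
    g < 12 ∧ code (Tab.data.T g c) = code c ∧ (c ≤ Tab.data.T g c →
      ∀ k < 12, k ≠ g → (endS (pairWord g k) c 0).2 = 0) := by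
  obtain ⟨h0, h1⟩ := code_of_lab h
  have hp := K.pairs c hc
  simp only [pairOK, force_eq] at hp
  rcases hb : Nat.beq (code c) 0 with _ | _
  swap
  · exact absurd (Nat.eq_of_beq_eq_true hb) h0
  rw [hb, sel_false, h1, show (g + 1).sub 1 = g from rfl] at hp
  simp only [labEdge, force_eq, Big.ba_eq, Bool.and_eq_true, Nat.ble_eq, Nat.beq_eq] at hp
  obtain ⟨hg, hd, hrest⟩ := hp
  refine ⟨hg, hd, fun hle k hk hkg => ?_⟩
  rcases hl : Nat.ble (Nat.succ (Tab.data.T g c)) c with _ | _
  swap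
  · have := Nat.le_of_ble_eq_true hl; omega
  rw [hl, sel_false] at hrest
  have h2 := allRange_spec hrest k (Nat.zero_le _) (by omega)
  rcases hkb : Nat.beq k g with _ | _
  swap
  · exact absurd (Nat.eq_of_beq_eq_true hkb) hkg
  rw [hkb, sel_false, walkS_eq] at h2
  exact Nat.eq_of_beq_eq_true h2

theorem lab_symm {g c : ℕ} (hg : g < 12) (hc : c < Tab.data.n) :
    lab g (Tab.data.T g c) = lab g c := by
  by_cases h : lab g c = 0
  · by_contra hne
    rw [h] at hne
    obtain ⟨hlt, hTT⟩ := closed hg hc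
    have := (labEdge_spec K hlt hne).2.1
    rw [hTT] at this
    exact hne (by simp only [lab] at h ⊢; rw [← this]; exact h)
  · simp only [lab]
    rw [(labEdge_spec K hc h).2.1]

theorem σ_apply {g : ℕ} (hg : g < 12) (p : Pt) :
    ((σ g p).1 : ℕ) = Tab.data.T g p.1 ∧ (σ g p).2 = -p.2 + lz g p.1 := by
  have h : ∀ c : Fin Tab.data.n, ∃ hb : Tab.data.T g c < Tab.data.n,
      Tab.data.T g (Tab.data.T g c) = c ∧ lab g (Tab.data.T g c) = lab g c :=
    fun c => ⟨(closed hg c.2).1, (closed hg c.2).2, lab_symm K hg c.2⟩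
  rw [σ, dif_pos h]
  exact ⟨rfl, rfl⟩

attribute [local irreducible] σ

theorem σ_sq {g : ℕ} (hg : g < 12) : σ g * σ g = 1 := by
  refine Equiv.ext fun p => ?_
  rw [Equiv.Perm.mul_apply, Equiv.Perm.one_apply]
  obtain ⟨a1, a2⟩ := σ_apply K hg p
  obtain ⟨b1, b2⟩ := σ_apply K hg (σ g p)
  refine Prod.ext (Fin.ext (by rw [b1, a1]; exact (closed hg p.1.2).2)) ?_
  rw [b2, a2, a1]
  simp only [lz, lab_symm K hg p.1.2]
  abel

theorem ev_zero (w : List ℕ) (hw : ∀ g ∈ w, g < 12) (c : Fin Tab.data.n) (a : ℕ) :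
    ((ev σ w (c, (a : ZMod 3))).1 : ℕ) = pathEnd Tab.data.T w c ∧
      (ev σ w (c, (a : ZMod 3))).2 = ((endS w c a).2 : ZMod 3) := by
  induction w generalizing c a with
  | nil => exact ⟨rfl, rfl⟩
  | cons g w ih =>
    have hg := hw g (by simp)
    obtain ⟨a1, a2⟩ := σ_apply K hg (c, (a : ZMod 3))
    rw [ev, Equiv.Perm.mul_apply]
    have e : σ g (c, (a : ZMod 3)) =
        (⟨Tab.data.T g c, (closed hg c.2).1⟩, (((2 * a + lab g c) % 3 : ℕ) : ZMod 3)) := by
      refine Prod.ext (Fin.ext a1) ?_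
      rw [a2, ZMod.natCast_mod]
      simp only [lz, Nat.cast_add, Nat.cast_mul, show ((2 : ℕ) : ZMod 3) = -1 from rfl,
        neg_one_mul]
    rw [e]
    exact ih (fun x hx => hw x (by simp [hx])) _ _

theorem ev_shift (w : List ℕ) (hw : ∀ g ∈ w, g < 12) (c : Fin Tab.data.n) (i : ZMod 3) :
    (ev σ w (c, i)).1 = (ev σ w (c, 0)).1 ∧
      (ev σ w (c, i)).2 = (-1) ^ w.length * i + (ev σ w (c, 0)).2 := by
  induction w generalizing c i with
  | nil => simp [ev]
  | cons g w ih =>
    have hg := hw g (by simp)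
    simp only [ev, Equiv.Perm.mul_apply]
    obtain ⟨a1, a2⟩ := σ_apply K hg (c, i)
    obtain ⟨b1, b2⟩ := σ_apply K hg (c, (0 : ZMod 3))
    simp only at a1 a2 b1 b2
    have hw' : ∀ x ∈ w, x < 12 := fun x hx => hw x (by simp [hx])
    have ha : σ g (c, i) = ((σ g (c, (0 : ZMod 3))).1, -i + lz g c) :=
      Prod.ext (Fin.ext (a1.trans b1.symm)) a2
    have hb : σ g (c, (0 : ZMod 3)) = ((σ g (c, (0 : ZMod 3))).1, lz g c) :=
      Prod.ext rfl (by rw [b2]; simp)
    obtain ⟨p1, p2⟩ := ih hw' (σ g (c, (0 : ZMod 3))).1 (-i + lz g c)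
    obtain ⟨q1, q2⟩ := ih hw' (σ g (c, (0 : ZMod 3))).1 (lz g c)
    rw [← ha] at p1 p2
    rw [← hb] at q1 q2
    refine ⟨p1.trans q1.symm, ?_⟩
    rw [p2, q2, List.length_cons, pow_succ]
    ring

/-- the value of a word at a node -/
noncomputable def val (w : List ℕ) (c : Fin Tab.data.n) : ZMod 3 := (ev σ w (c, 0)).2

theorem ev_fix_iff {w : List ℕ} (hw : ∀ g ∈ w, g < 12) (hl : Even w.length)
    {c : Fin Tab.data.n} (hend : pathEnd Tab.data.T w c = c) (i : ZMod 3) :
    ev σ w (c, i) = (c, i + val w c) := by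
  obtain ⟨a1, a2⟩ := ev_shift K w hw c i
  refine Prod.ext ?_ ?_
  · rw [a1]
    refine Fin.ext ?_
    have := (ev_zero K w hw c 0).1
    rw [Nat.cast_zero] at this
    rw [this, hend]
  · rw [a2, hl.neg_one_pow, one_mul]; rfl

theorem val_eq {w : List ℕ} (hw : ∀ g ∈ w, g < 12) (c : Fin Tab.data.n) :
    val w c = ((endS w c 0).2 : ZMod 3) := by
  have := (ev_zero K w hw c 0).2
  rwa [Nat.cast_zero] at this

theorem word_end {w : List ℕ} (hk : known w = true) (c : Fin Tab.data.n) :
    pathEnd Tab.data.T w c = c := by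
  have hl : ∀ g ∈ w, g < 12 := by
    simp only [known, Bool.and_eq_true, List.all_eq_true, decide_eq_true_eq] at hk
    exact hk.1
  rw [← model.act_ev w hl c, known_spec hk, map_one]
  rfl

/-- the relator of two generators fixes the fibre over `c` -/
def FixF (g h c : ℕ) : Prop :=
  ∀ p : Pt, (p.1 : ℕ) = c → ((σ h * σ g) ^ edgeExp g h) p = p

theorem ev_pair (g h : ℕ) : ev σ (pairWord g h) = (σ h * σ g) ^ edgeExp g h := by
  rw [pairWord, ev_expand]; simp [ev]

theorem fixF_swap {g h c : ℕ} (hg : g < 12) (hh : h < 12) (hf : FixF g h c) : FixF h g c := by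
  intro p hp
  have e : (σ g * σ h) ^ edgeExp h g = ((σ h * σ g) ^ edgeExp g h)⁻¹ := by
    rw [← (pair_even g hg h hh).2.2.1, ← inv_pow, mul_inv_rev,
      inv_eq_of_mul_eq_one_right (σ_sq K hg), inv_eq_of_mul_eq_one_right (σ_sq K hh)]
  rw [e, Equiv.Perm.inv_eq_iff_eq]
  exact (hf p hp).symm

theorem fixF_step {g h c : ℕ} (hg : g < 12) (hh : h < 12) (hc : c < Tab.data.n)
    (hf : FixF g h (Tab.data.T g c)) : FixF g h c := by
  have hf' := fixF_swap K hg hh hf
  intro p hp
  have e : (σ h * σ g) ^ edgeExp g h = σ g * (σ g * σ h) ^ edgeExp h g * σ g := by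
    rw [(pair_even g hg h hh).2.2.1]
    have := conj_pow (a := σ g) (b := σ g * σ h) (i := edgeExp h g)
    rw [inv_eq_of_mul_eq_one_right (σ_sq K hg)] at this
    rw [← this, show σ g * (σ g * σ h) * σ g = σ h * σ g by
      rw [← mul_assoc, σ_sq K hg, one_mul]]
  have hp' : ((σ g p).1 : ℕ) = Tab.data.T g c := by rw [(σ_apply K hg p).1, hp]
  rw [e, Equiv.Perm.mul_apply, Equiv.Perm.mul_apply, hf' _ hp', ← Equiv.Perm.mul_apply,
    σ_sq K hg, Equiv.Perm.one_apply]

theorem fixF_of_lab {g h c : ℕ} (hg : g < 12) (hh : h < 12) (hne : g ≠ h) (hc : c < Tab.data.n)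
    (hl : lab g c ≠ 0) : FixF g h c := by
  have key : ∀ c, c < Tab.data.n → lab g c ≠ 0 → c ≤ Tab.data.T g c → FixF g h c := by
    intro c hc hl hle p hp
    obtain ⟨he, hw, -, -⟩ := pair_even g hg h hh
    have h0 := (labEdge_spec K hc hl).2.2 hle h hh (Ne.symm hne)
    rw [← ev_pair K]
    obtain ⟨⟨pc, hpc⟩, i⟩ := p
    obtain rfl : pc = c := hp
    rw [ev_fix_iff K hw he (word_end K (pair_known g hg h hh hne) ⟨pc, hpc⟩), val_eq K hw, h0,
      Nat.cast_zero, add_zero]
  rcases Nat.lt_or_ge (Tab.data.T g c) c with hlt | hge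
  · refine fixF_step K hg hh hc (key _ (closed hg hc).1 (by rwa [lab_symm K hg hc]) ?_)
    rw [(closed hg hc).2]; omega
  · exact key c hc hl hge

theorem fixF_all {g h c : ℕ} (hg : g < 12) (hh : h < 12) (hne : g ≠ h) (hc : c < Tab.data.n) :
    FixF g h c := by
  have sg : ∀ c, c < Tab.data.n → FixF g h (Tab.data.T g c) → FixF g h c :=
    fun c hc h' => fixF_step K hg hh hc h'
  have sh : ∀ c, c < Tab.data.n → FixF g h (Tab.data.T h c) → FixF g h c :=
    fun c hc h' => fixF_swap K hh hg (fixF_step K hh hg hc (fixF_swap K hg hh h'))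
  have lg : ∀ c, c < Tab.data.n → lab g c ≠ 0 → FixF g h c :=
    fun c hc h' => fixF_of_lab K hg hh hne hc h'
  have lh : ∀ c, c < Tab.data.n → lab h c ≠ 0 → FixF g h c :=
    fun c hc h' => fixF_swap K hh hg (fixF_of_lab K hh hg hne.symm hc h')
  set c1 := Tab.data.T g c with hc1
  have b1 : c1 < Tab.data.n := (closed hg hc).1
  set c2 := Tab.data.T h c1 with hc2
  have b2 : c2 < Tab.data.n := (closed hh b1).1
  set c3 := Tab.data.T g c2 with hc3
  have b3 : c3 < Tab.data.n := (closed hg b2).1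
  set c4 := Tab.data.T h c3 with hc4
  have b4 : c4 < Tab.data.n := (closed hh b3).1
  set c5 := Tab.data.T g c4 with hc5
  have b5 : c5 < Tab.data.n := (closed hg b4).1
  by_cases l0 : lab g c = 0
  swap
  · exact lg c hc l0
  by_cases l1 : lab h c1 = 0
  swap
  · exact sg c hc (lh c1 b1 l1)
  by_cases l2 : lab g c2 = 0
  swap
  · exact sg c hc (sh c1 b1 (lg c2 b2 l2))
  by_cases l3 : lab h c3 = 0
  swap
  · exact sg c hc (sh c1 b1 (sg c2 b2 (lh c3 b3 l3)))
  by_cases l4 : lab g c4 = 0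
  swap
  · exact sg c hc (sh c1 b1 (sg c2 b2 (sh c3 b3 (lg c4 b4 l4))))
  by_cases l5 : lab h c5 = 0
  swap
  · exact sg c hc (sh c1 b1 (sg c2 b2 (sh c3 b3 (sg c4 b4 (lh c5 b5 l5)))))
  obtain ⟨he, hw, -, hexp⟩ := pair_even g hg h hh
  suffices hz : (endS (pairWord g h) c 0).2 = 0 by
    intro p hp
    rw [← ev_pair K]
    obtain ⟨⟨pc, hpc⟩, i⟩ := p
    obtain rfl : pc = c := hp
    rw [ev_fix_iff K hw he (word_end K (pair_known g hg h hh hne) ⟨pc, hpc⟩), val_eq K hw, hz,
      Nat.cast_zero, add_zero]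
  rcases hexp with hm | hm
  · rw [pairWord, hm, show expand ([g, h], 2) = [g, h, g, h] from rfl]
    simp only [endS, ← hc1, ← hc2, ← hc3, l0, l1, l2, l3]
  · rw [pairWord, hm, show expand ([g, h], 3) = [g, h, g, h, g, h] from rfl]
    simp only [endS, ← hc1, ← hc2, ← hc3, ← hc4, ← hc5, l0, l1, l2, l3, l4, l5]

end H24.Fi24Cover
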