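import Cfsg.Agent.H24.Fi24Cover.Cycles
import Cfsg.Agent.H24.Fi24Cover.Checks
import Cfsg.Agent.H47.Fi24.Base
import Cfsg.Agent.H47.Fi24.Order
import Cfsg.Prelude.Def_KGroupFacts

/-!
The presented Fi24' has a stem extension with kernel of order three.
-/

set_option autoImplicit false
set_option maxRecDepth 100000
set_option linter.unusedSectionVars false

namespace H24.Fi24Cover

open H93.Coset H47.Fi24
open scoped commutatorElement

attribute [local irreducible] Tab.raChunk Tab.rbChunk Tab.weChunk Tab.wzChunk labChunk σ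

theorem checked : Checked := checked_of_all ok_all

/-- the action of words on the cover -/
noncomputable def φ : FreeGroup Cfsg.Spor.Fi24.Gen →* Equiv.Perm Pt :=
  FreeGroup.lift fun a => σ (ix a)

/-- the presentation map -/
noncomputable abbrev mk' : FreeGroup Cfsg.Spor.Fi24.Gen →* Cfsg.Spor.Fi24 :=
  PresentedGroup.mk _

theorem φ_of (a : Cfsg.Spor.Fi24.Gen) : φ (FreeGroup.of a) = σ (ix a) := FreeGroup.lift_apply_of

theorem ix12 (a : Cfsg.Spor.Fi24.Gen) : ix a < 12 := by cases a <;> decide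

theorem tau_apply (t : ZMod 3) (p : Pt) : tau t p = (p.1, p.2 + t) := rfl

theorem tau_mul (s t : ZMod 3) : tau s * tau t = tau (s + t) := by
  refine Equiv.ext fun p => ?_
  rw [Equiv.Perm.mul_apply, tau_apply, tau_apply, tau_apply, add_assoc, add_comm t s]

theorem tau_zero : tau 0 = 1 := Equiv.ext fun p => by simp [tau_apply]

theorem tau_inv (t : ZMod 3) : (tau t)⁻¹ = tau (-t) :=
  inv_eq_of_mul_eq_one_right (by rw [tau_mul, add_neg_cancel, tau_zero])

theorem tau_inj {s t : ZMod 3} (h : tau s = tau t) : s = t := by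
  have := congrArg (fun g : Equiv.Perm Pt => (g (⟨0, Tab.tables.pos⟩, 0)).2) h
  simpa [tau_apply] using this

theorem σ_tau {g : ℕ} (hg : g < 12) (t : ZMod 3) : σ g * tau t * σ g = tau (-t) := by
  refine Equiv.ext fun p => ?_
  rw [Equiv.Perm.mul_apply, Equiv.Perm.mul_apply]
  have hinv : σ g (σ g p) = p := by
    rw [← Equiv.Perm.mul_apply, σ_sq checked hg, Equiv.Perm.one_apply]
  obtain ⟨a1, a2⟩ := σ_apply checked hg (tau t (σ g p))
  obtain ⟨b1, b2⟩ := σ_apply checked hg (σ g p)
  rw [hinv] at b1 b2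
  refine Prod.ext (Fin.ext (a1.trans b1.symm)) ?_
  rw [a2, tau_apply, tau_apply, b2]
  simp only
  ring

theorem conj_tau (w : FreeGroup Cfsg.Spor.Fi24.Gen) :
    ∃ e : ZMod 3, (e = 1 ∨ e = -1) ∧ ∀ t, φ w * tau t * (φ w)⁻¹ = tau (e * t) := by
  induction w using FreeGroup.induction_on with
  | C1 => exact ⟨1, Or.inl rfl, fun t => by simp⟩
  | of a =>
    refine ⟨-1, Or.inr rfl, fun t => ?_⟩
    rw [φ_of, inv_eq_of_mul_eq_one_right (σ_sq checked (ix12 a)), σ_tau (ix12 a), neg_one_mul]
  | inv_of a _ =>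
    refine ⟨-1, Or.inr rfl, fun t => ?_⟩
    rw [map_inv, φ_of, inv_eq_of_mul_eq_one_right (σ_sq checked (ix12 a)),
      inv_eq_of_mul_eq_one_right (σ_sq checked (ix12 a)), σ_tau (ix12 a), neg_one_mul]
  | mul u v hu hv =>
    obtain ⟨e, he, hue⟩ := hu
    obtain ⟨f, hf, hvf⟩ := hv
    refine ⟨e * f, ?_, fun t => ?_⟩
    · rcases he with rfl | rfl <;> rcases hf with rfl | rfl <;> simp
    · rw [map_mul, mul_inv_rev, show φ u * φ v * tau t * ((φ v)⁻¹ * (φ u)⁻¹) =
        φ u * (φ v * tau t * (φ v)⁻¹) * (φ u)⁻¹ by group, hvf, hue, mul_assoc]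

theorem word_class : ∀ w ∈ Tab.data.words.take Tab.data.nrel,
    (w = eWord ∨ w = zWord) ∨ ∃ g < 12, ∃ h < 12, (g = h ∧ w = [g, g]) ∨ (g ≠ h ∧ w = pairWord g h) := by
  decide +kernel

theorem ev_word {w : List ℕ} (hw : w ∈ Tab.data.words.take Tab.data.nrel) :
    ∃ t, ev σ w = tau t := by
  rcases word_class w hw with (rfl | rfl) | ⟨g, hg, h, hh, ⟨-, rfl⟩ | ⟨hne, rfl⟩⟩
  · exact ⟨0, ev_eWord checked⟩
  · exact ⟨1, ev_zWord checked⟩
  · exact ⟨0, by rw [tau_zero, ← σ_sq checked hg]; simp [ev]⟩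
  · exact ⟨0, ev_pairWord checked hg hh hne⟩

/-- the elements of the free group acting as shifts -/
noncomputable def shifts : Subgroup (FreeGroup Cfsg.Spor.Fi24.Gen) where
  carrier := {w | ∃ t, φ w = tau t}
  one_mem' := ⟨0, by rw [map_one, tau_zero]⟩
  mul_mem' := fun ⟨s, hs⟩ ⟨t, ht⟩ => ⟨s + t, by rw [map_mul, hs, ht, tau_mul]⟩
  inv_mem' := fun ⟨s, hs⟩ => ⟨-s, by rw [map_inv, hs, tau_inv]⟩

theorem shifts_normal : shifts.Normal := by
  refine ⟨fun n ⟨t, ht⟩ w => ?_⟩
  obtain ⟨e, -, he⟩ := conj_tau w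
  exact ⟨e * t, by rw [map_mul, map_mul, map_inv, ht, he]⟩

theorem ker_mk_le : mk'.ker ≤ shifts := by
  haveI := shifts_normal
  intro x hx
  have hx' : x ∈ Subgroup.normalClosure
      (Cfsg.Spor.coxRelators Cfsg.Spor.Fi24.edges ∪ {r | r ∈ Cfsg.Spor.Fi24.extra}) :=
    PresentedGroup.mk_eq_one_iff.1 hx
  refine Subgroup.normalClosure_le_normal (N := shifts) (fun r hr => ?_) hx'
  show ∃ t, φ r = tau t
  rw [φ, lift_eq_ev _ σ ix (fun _ => rfl) (fun a => σ_sq checked (ix12 a))]
  rcases fit.relCover r (mem_relList.mpr hr) with h | h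
  · exact ev_word h
  · obtain ⟨t, ht⟩ := ev_word h
    refine ⟨-t, ?_⟩
    rw [ev_reverse σ (fun g hg => σ_sq checked hg) (m := 12) _ (fun g hg =>
      Tab.tables.mem_letters _ (List.mem_of_mem_take h) g (by simpa using hg))] at ht
    rw [← tau_inv, ← ht, inv_inv]

theorem φ_fst (w : FreeGroup Cfsg.Spor.Fi24.Gen) :
    ∀ p : Pt, (φ w p).1 = model.act (mk' w) p.1 := by
  have hof : ∀ a p, (φ (FreeGroup.of a) p).1 = model.act (mk' (FreeGroup.of a)) p.1 := by
    intro a p
    refine Fin.ext ?_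
    rw [φ_of, (σ_apply checked (ix12 a) p).1, show mk' (FreeGroup.of a) = ev gen [ix a] by
      simp only [ev, one_mul]; exact (fit.gen_ix a).symm,
      model.act_ev _ (fun g hg => by rw [List.mem_singleton.mp hg]; exact ix12 a)]
    rfl
  induction w using FreeGroup.induction_on with
  | C1 => intro p; simp
  | of a => exact hof a
  | inv_of a ih =>
    intro p
    have h := ih ((φ (FreeGroup.of a))⁻¹ p)
    rw [← Equiv.Perm.mul_apply, mul_inv_cancel, Equiv.Perm.one_apply] at h
    rw [map_inv, map_inv, map_inv, h, ← Equiv.Perm.mul_apply, inv_mul_cancel, Equiv.Perm.one_apply]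
  | mul u v hu hv =>
    intro p
    rw [map_mul, map_mul, map_mul, Equiv.Perm.mul_apply, Equiv.Perm.mul_apply, hu, hv]

/-- the cover of Fi24 -/
noncomputable abbrev Cover : Subgroup (Equiv.Perm Pt) := φ.range

theorem exists_proj : ∃ q : Cover →* Cfsg.Spor.Fi24, (∀ w, q ⟨φ w, w, rfl⟩ = mk' w) ∧
    Function.Surjective q := by
  have hk : φ.rangeRestrict.ker ≤ mk'.ker := by
    intro w hw
    rw [MonoidHom.ker_rangeRestrict, MonoidHom.mem_ker] at hw
    rw [MonoidHom.mem_ker]
    refine eq_one_of_fix_base _ fun p _ h => ?_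
    have := φ_fst w (⟨p, h⟩, 0)
    rw [hw, Equiv.Perm.one_apply] at this
    exact this.symm
  let q := (φ.rangeRestrict.liftOfSurjective φ.rangeRestrict_surjective) ⟨mk', hk⟩
  have hq : ∀ w, q ⟨φ w, w, rfl⟩ = mk' w := fun w =>
    MonoidHom.liftOfRightInverse_comp_apply _ _ _ _ w
  exact ⟨q, hq, fun x => by
    obtain ⟨w, rfl⟩ := PresentedGroup.mk_surjective _ x
    exact ⟨_, hq w⟩⟩

theorem tau_one_word : ∃ w, φ w = tau 1 ∧ mk' w = 1 := by
  let f : ℕ → FreeGroup Cfsg.Spor.Fi24.Gen := fun k => FreeGroup.of (gl.getD k .c)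
  refine ⟨ev f zWord, ?_, ?_⟩
  · rw [H47.Y555.ev_map, ← ev_zWord checked]
    refine H47.Y555.ev_congr fun g hg => ?_
    show φ (FreeGroup.of _) = σ g
    rw [φ_of, (show ∀ g < 12, ix (gl.getD g .c) = g by decide) g ((zWord_facts checked).2.1 g hg)]
  · rw [H47.Y555.ev_map]
    refine Eq.trans (H47.Y555.ev_congr fun g hg => ?_) (known_spec (zWord_facts checked).1)
    show mk' (FreeGroup.of _) = gen g
    have hg12 := (zWord_facts checked).2.1 g hg
    rw [show gen g = gen (ix (gl.getD g .c)) by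
      rw [(show ∀ g < 12, ix (gl.getD g .c) = g by decide) g hg12]]
    exact (fit.gen_ix _).symm

theorem third_node : ∀ g < 12, ∀ h < 12, ∃ m < 12, edgeExp g m = 2 ∧ edgeExp m h = 2 := by
  decide +kernel

/-- **The triple cover**: Fi24' has a stem extension whose kernel has order three. -/
theorem exists_triple_cover : ∃ (Γ : Type) (_ : Group Γ) (_ : Finite Γ)
    (ψ : Γ →* Cfsg.Spor.Fi24'), Cfsg.IsStemExtension ψ ∧
      Nonempty (ψ.ker ≃* Multiplicative (ZMod 3)) := by
  classical
  obtain ⟨q, hq, hqs⟩ := exists_proj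
  obtain ⟨wz, hwz, hwz1⟩ := tau_one_word
  have hτ : ∀ t : ZMod 3, tau t ∈ Cover := fun t => ⟨wz ^ t.val, by
    rw [map_pow, hwz]
    have : ∀ n : ℕ, tau (1 : ZMod 3) ^ n = tau (n : ZMod 3) := by
      intro n
      induction n with
      | zero => rw [pow_zero, Nat.cast_zero, tau_zero]
      | succ n ih => rw [pow_succ, ih, tau_mul, Nat.cast_succ]
    rw [this, ZMod.natCast_zmod_val]⟩
  let τ : ZMod 3 → Cover := fun t => ⟨tau t, hτ t⟩
  have τ_mul : ∀ s t, τ s * τ t = τ (s + t) := fun s t => Subtype.ext (tau_mul s t)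
  have τ_inj : ∀ {s t}, τ s = τ t → s = t := fun h => tau_inj (congrArg Subtype.val h)
  have hqτ : ∀ t, q (τ t) = 1 := by
    have h1 : q (τ 1) = 1 := by
      rw [show τ 1 = ⟨φ wz, wz, rfl⟩ from Subtype.ext hwz.symm, hq, hwz1]
    have h0 : q (τ 0) = 1 := by
      rw [show τ 0 = 1 from Subtype.ext tau_zero, map_one]
    intro t
    have : t = 0 ∨ t = 1 ∨ t = 1 + 1 := by revert t; decide
    rcases this with rfl | rfl | rfl
    exacts [h0, h1, by rw [← τ_mul, map_mul, h1, mul_one]]
  have hker : ∀ x, q x = 1 → ∃ t, x = τ t := by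
    rintro ⟨_, w, rfl⟩ h
    rw [hq] at h
    obtain ⟨t, ht⟩ := ker_mk_le (MonoidHom.mem_ker.2 h)
    exact ⟨t, Subtype.ext ht⟩
  have hconj : ∀ x : Cover, ∃ e : ZMod 3, (e = 1 ∨ e = -1) ∧ ∀ t, x * τ t * x⁻¹ = τ (e * t) := by
    rintro ⟨_, w, rfl⟩
    obtain ⟨e, he, h⟩ := conj_tau w
    exact ⟨e, he, fun t => Subtype.ext (h t)⟩
  let g' : ℕ → Cover := fun k => if h : k < 12 then
    ⟨σ k, FreeGroup.of (gl.getD k .c), by
      rw [φ_of, (show ∀ g < 12, ix (gl.getD g .c) = g by decide) k h]⟩ else 1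
  have g'v : ∀ k, k < 12 → (g' k : Equiv.Perm Pt) = σ k := fun k hk => by simp [g', hk]
  have g'sq : ∀ k, k < 12 → g' k * g' k = 1 := fun k hk => Subtype.ext (by
    rw [Subgroup.coe_mul, g'v k hk, σ_sq checked hk]; rfl)
  have g'gen : Subgroup.closure (g' '' {k | k < 12}) = ⊤ := by
    rw [eq_top_iff]
    rintro ⟨_, w, rfl⟩ -
    induction w using FreeGroup.induction_on with
    | C1 =>
      rw [show (⟨φ 1, 1, rfl⟩ : Cover) = 1 from Subtype.ext (map_one φ)]
      exact one_mem _
    | of a =>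
      rw [show (⟨φ (FreeGroup.of a), _, rfl⟩ : Cover) = g' (ix a) from
        Subtype.ext (by rw [g'v _ (ix12 a)]; exact φ_of a)]
      exact Subgroup.subset_closure ⟨ix a, ix12 a, rfl⟩
    | inv_of a ih =>
      rw [show (⟨φ (FreeGroup.of a)⁻¹, _, rfl⟩ : Cover) = (⟨φ (FreeGroup.of a), _, rfl⟩ : Cover)⁻¹
        from Subtype.ext (map_inv φ _)]
      exact inv_mem ih
    | mul u v hu hv =>
      rw [show (⟨φ (u * v), _, rfl⟩ : Cover) = ⟨φ u, _, rfl⟩ * ⟨φ v, _, rfl⟩ from
        Subtype.ext (map_mul φ u v)]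
      exact mul_mem hu hv
  have gcomm : ∀ g h, g < 12 → h < 12 → edgeExp g h = 2 → Commute (g' g) (g' h) := fun g h hg hh he =>
    Subtype.ext (by
      rw [Subgroup.coe_mul, Subgroup.coe_mul, g'v g hg, g'v h hh]
      exact (σ_commute checked hg hh he).eq)
  -- shifts are commutators, central in the derived group
  have hτc : ∀ t, τ t ∈ commutator Cover := by
    intro t
    have h := Subgroup.commutator_mem_commutator (Subgroup.mem_top (g' 0)) (Subgroup.mem_top (τ t))
    have e : ⁅g' 0, τ t⁆ = τ t := by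
      rw [commutatorElement_def]
      refine Subtype.ext ?_
      rw [Subgroup.coe_mul, Subgroup.coe_mul, Subgroup.coe_mul, Subgroup.coe_inv, Subgroup.coe_inv,
        g'v 0 (by norm_num), inv_eq_of_mul_eq_one_right (σ_sq checked (g := 0) (by norm_num))]
      show σ 0 * tau t * σ 0 * (tau t)⁻¹ = tau t
      rw [σ_tau (by norm_num), tau_inv, tau_mul]
      exact congrArg tau ((show ∀ t : ZMod 3, -t + -t = t by decide) t)
    rw [e] at h
    exact h
  have hcen : ∀ x ∈ commutator Cover, ∀ t, x * τ t = τ t * x := by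
    intro x hx
    rw [commutator_def] at hx
    have hle : ⁅(⊤ : Subgroup Cover), ⊤⁆ ≤ Subgroup.centralizer (Set.range τ) := by
      rw [Subgroup.commutator_le]
      intro a _ b _
      rw [Subgroup.mem_centralizer_iff]
      rintro _ ⟨t, rfl⟩
      obtain ⟨e, he, ha⟩ := hconj a
      obtain ⟨f, hf, hb⟩ := hconj b
      have hai : ∀ t, a⁻¹ * τ t * a = τ (e * t) := fun t => by
        have h2 := ha (e * t)
        rw [← mul_assoc, show e * e = 1 by rcases he with rfl | rfl <;> simp, one_mul] at h2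
        rw [← h2]; group
      have hbi : ∀ t, b⁻¹ * τ t * b = τ (f * t) := fun t => by
        have h2 := hb (f * t)
        rw [← mul_assoc, show f * f = 1 by rcases hf with rfl | rfl <;> simp, one_mul] at h2
        rw [← h2]; group
      have hee : ⁅a, b⁆ * τ t * ⁅a, b⁆⁻¹ = τ t := by
        rw [commutatorElement_def, show a * b * a⁻¹ * b⁻¹ * τ t * (a * b * a⁻¹ * b⁻¹)⁻¹ =
          a * (b * (a⁻¹ * (b⁻¹ * τ t * b) * a) * b⁻¹) * a⁻¹ by group, hbi, hai, hb, ha]
        congr 1
        rcases he with rfl | rfl <;> rcases hf with rfl | rfl <;> simp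
      conv_lhs => rw [← hee]
      group
    intro t
    exact (Subgroup.mem_centralizer_iff.1 (hle hx) (τ t) ⟨t, rfl⟩).symm
  -- the derived group is perfect
  obtain ⟨hsimp, hcard⟩ := H47.Fi24.isFi24'
  haveI := hsimp
  have hperf : ⁅commutator Cfsg.Spor.Fi24, commutator Cfsg.Spor.Fi24⁆ = commutator Cfsg.Spor.Fi24 := by
    have hN : (commutator ↥(commutator Cfsg.Spor.Fi24)).map (commutator Cfsg.Spor.Fi24).subtype =
        ⁅commutator Cfsg.Spor.Fi24, commutator Cfsg.Spor.Fi24⁆ := by
      show (⁅⊤, ⊤⁆ : Subgroup ↥(commutator Cfsg.Spor.Fi24)).map _ = _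
      rw [Subgroup.map_commutator, ← MonoidHom.range_eq_map, Subgroup.range_subtype]
    rcases (inferInstance : (commutator ↥(commutator Cfsg.Spor.Fi24)).Normal).eq_bot_or_eq_top
      with h | h
    · exfalso
      letI : CommGroup ↥(commutator Cfsg.Spor.Fi24) :=
        { (inferInstance : Group ↥(commutator Cfsg.Spor.Fi24)) with
          mul_comm := fun a b => by
            have hab := Subgroup.commutator_mem_commutator (Subgroup.mem_top a) (Subgroup.mem_top b)
            rw [← commutator_def, h, Subgroup.mem_bot, commutatorElement_eq_one_iff_mul_comm] at hab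
            exact hab }
      have hp := (Group.is_simple_iff_prime_card (α := ↥(commutator Cfsg.Spor.Fi24))).1 hsimp
      rw [show Nat.card ↥(commutator Cfsg.Spor.Fi24) = 1255205709190661721292800 from hcard] at hp
      exact absurd ((Nat.prime_dvd_prime_iff_eq Nat.prime_two hp).1 (by norm_num)) (by norm_num)
    · rw [← hN, h, ← MonoidHom.range_eq_map, Subgroup.range_subtype]
  set D2 : Subgroup Cover := ⁅commutator Cover, commutator Cover⁆ with hD2
  have hmap1 : (commutator Cover).map q = commutator Cfsg.Spor.Fi24 := by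
    rw [commutator_def, Subgroup.map_commutator, ← MonoidHom.range_eq_map,
      MonoidHom.range_eq_top.2 hqs, ← commutator_def]
  have hcube : ∀ x ∈ commutator Cover, x ^ 3 ∈ D2 := by
    intro x hx
    have hqx : q x ∈ D2.map q := by
      rw [hD2, Subgroup.map_commutator, hmap1, hperf, ← hmap1]
      exact ⟨x, hx, rfl⟩
    obtain ⟨d, hd, hde⟩ := hqx
    obtain ⟨t, ht⟩ := hker (d⁻¹ * x) (by rw [map_mul, map_inv, hde, inv_mul_cancel])
    have hdC : d ∈ commutator Cover := Subgroup.commutator_le_self _ hd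
    have hxe : x = d * τ t := by rw [← ht]; group
    rw [hxe, (show Commute d (τ t) from hcen d hdC t).mul_pow]
    refine mul_mem (pow_mem hd 3) ?_
    rw [pow_succ, pow_two, τ_mul, τ_mul, (show ∀ u : ZMod 3, u + u + u = 0 by decide) t,
      show τ 0 = 1 from Subtype.ext tau_zero]
    exact one_mem _
  haveI : D2.Normal := by rw [hD2]; infer_instance
  set π := QuotientGroup.mk' D2 with hπ
  set Q0 := QuotientGroup.mk' (commutator Cover)
  have habel : ∀ g h, g < 12 → h < 12 → Q0 (g' g) = Q0 (g' h) := by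
    have hbr : ∀ g h, g < 12 → h < 12 → g ≠ h → edgeExp g h = 3 → Q0 (g' g) = Q0 (g' h) := by
      intro g h hg hh hne he
      have h3 : (g' h * g' g) ^ 3 = 1 := Subtype.ext (by
        rw [SubmonoidClass.coe_pow, Subgroup.coe_mul, g'v g hg, g'v h hh, ← he, ← ev_pair checked,
          ev_pairWord checked hg hh hne, tau_zero]
        rfl)
      have hcq : Commute (Q0 (g' h)) (Q0 (g' g)) := by
        rw [Commute, SemiconjBy, ← map_mul, ← map_mul]
        refine (QuotientGroup.eq.2 ?_)
        rw [show (g' h * g' g)⁻¹ * (g' g * g' h) = ⁅(g' g)⁻¹, (g' h)⁻¹⁆ by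
          rw [commutatorElement_def]; group]
        exact Subgroup.commutator_mem_commutator (Subgroup.mem_top _) (Subgroup.mem_top _)
      have h2 : (Q0 (g' h) * Q0 (g' g)) ^ 2 = 1 := by
        rw [hcq.mul_pow, pow_two, pow_two, ← map_mul, ← map_mul, g'sq h hh, g'sq g hg, map_one,
          mul_one]
      have h3' : (Q0 (g' h) * Q0 (g' g)) ^ 3 = 1 := by rw [← map_mul, ← map_pow, h3, map_one]
      rw [pow_succ, h2, one_mul] at h3'
      rw [← inv_eq_of_mul_eq_one_right (show Q0 (g' g) * Q0 (g' g) = 1 by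
        rw [← map_mul, g'sq g hg, map_one])]
      exact (eq_inv_of_mul_eq_one_left h3').symm
    intro g h hg hh
    have key : ∀ k, k < 12 → Q0 (g' k) = Q0 (g' 1) := by
      have e : ∀ a b, a < 12 → b < 12 → a ≠ b → edgeExp a b = 3 → Q0 (g' b) = Q0 (g' 1) →
          Q0 (g' a) = Q0 (g' 1) := fun a b ha hb hn he hb' => (hbr a b ha hb hn he).trans hb'
      have k0 := e 0 1 (by norm_num) (by norm_num) (by norm_num) (by decide +kernel) rfl
      have k2 := e 2 1 (by norm_num) (by norm_num) (by norm_num) (by decide +kernel) rfl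
      have k4 := e 4 1 (by norm_num) (by norm_num) (by norm_num) (by decide +kernel) rfl
      have k5 := e 5 0 (by norm_num) (by norm_num) (by norm_num) (by decide +kernel) k0
      have k8 := e 8 5 (by norm_num) (by norm_num) (by norm_num) (by decide +kernel) k5
      have k11 := e 11 8 (by norm_num) (by norm_num) (by norm_num) (by decide +kernel) k8
      have k10 := e 10 11 (by norm_num) (by norm_num) (by norm_num) (by decide +kernel) k11
      have k3 := e 3 2 (by norm_num) (by norm_num) (by norm_num) (by decide +kernel) k2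
      have k7 := e 7 3 (by norm_num) (by norm_num) (by norm_num) (by decide +kernel) k3
      have k9 := e 9 7 (by norm_num) (by norm_num) (by norm_num) (by decide +kernel) k7
      have k6 := e 6 4 (by norm_num) (by norm_num) (by norm_num) (by decide +kernel) k4
      intro k hk
      interval_cases k <;> first | rfl | assumption
    rw [key g hg, key h hh]
  have hpi : ∀ g h, g < 12 → h < 12 → edgeExp g h = 2 → π (g' g) = π (g' h) := by
    intro g h hg hh he
    have hm : g' g * g' h ∈ commutator Cover := by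
      have := (QuotientGroup.eq (s := commutator Cover)).1 (habel g h hg hh)
      rwa [inv_eq_of_mul_eq_one_right (g'sq g hg)] at this
    have h3 : π (g' g * g' h) ^ 3 = 1 := by
      rw [← map_pow]; exact (QuotientGroup.eq_one_iff _).2 (hcube _ hm)
    have h2 : π (g' g * g' h) ^ 2 = 1 := by
      rw [← map_pow, (gcomm g h hg hh he).mul_pow, pow_two, pow_two, g'sq g hg, g'sq h hh, one_mul,
        map_one]
    rw [pow_succ, h2, one_mul, map_mul] at h3
    rw [eq_inv_of_mul_eq_one_left h3, ← map_inv, inv_eq_of_mul_eq_one_right (g'sq h hh)]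
  have hall : ∀ g, g < 12 → π (g' g) = π (g' 0) := fun g hg => by
    obtain ⟨m, hm, e1, e2⟩ := third_node g hg 0 (by norm_num)
    exact (hpi g m hg hm e1).trans (hpi m 0 hm (by norm_num) e2)
  have hD2top : commutator Cover ≤ D2 := by
    have hz : ∀ x, π x ∈ Subgroup.zpowers (π (g' 0)) := by
      intro x
      have hle : Subgroup.closure (g' '' {k | k < 12}) ≤
          (Subgroup.zpowers (π (g' 0))).comap π := by
        rw [Subgroup.closure_le]
        rintro _ ⟨k, hk, rfl⟩
        rw [SetLike.mem_coe, Subgroup.mem_comap, hall k hk]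
        exact Subgroup.mem_zpowers _
      exact hle (g'gen ▸ Subgroup.mem_top x)
    rw [commutator_def, Subgroup.commutator_le]
    intro a _ b _
    refine (QuotientGroup.eq_one_iff _).1 ?_
    show π ⁅a, b⁆ = 1
    obtain ⟨i, hi⟩ := hz a
    obtain ⟨j, hj⟩ := hz b
    rw [map_commutatorElement, commutatorElement_eq_one_iff_mul_comm, ← hi, ← hj]
    exact ((Commute.refl _).zpow_zpow i j).eq
  -- the extension
  haveI : Finite Cover := inferInstance
  let ψ : ↥(commutator Cover) →* Cfsg.Spor.Fi24' :=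
    (q.comp (commutator Cover).subtype).codRestrict (commutator Cfsg.Spor.Fi24)
      (fun x => hmap1 ▸ Subgroup.mem_map_of_mem q x.2)
  have hψk : ∀ x, x ∈ ψ.ker ↔ ∃ t, x = ⟨τ t, hτc t⟩ := by
    intro x
    rw [MonoidHom.mem_ker]
    constructor
    · intro h
      obtain ⟨t, ht⟩ := hker x.1 (congrArg Subtype.val h)
      exact ⟨t, Subtype.ext ht⟩
    · rintro ⟨t, rfl⟩
      exact Subtype.ext (hqτ t)
  refine ⟨↥(commutator Cover), inferInstance, inferInstance, ψ, ⟨?_, ?_, ?_⟩, ?_⟩
  · rintro ⟨y, hy⟩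
    rw [← hmap1] at hy
    obtain ⟨x, hx, rfl⟩ := hy
    exact ⟨⟨x, hx⟩, rfl⟩
  · intro x hx
    obtain ⟨t, rfl⟩ := (hψk x).1 hx
    exact Subgroup.mem_center_iff.2 fun y => Subtype.ext (hcen y.1 y.2 t)
  · intro x _
    have hx := hD2top x.2
    rw [hD2, ← show (commutator ↥(commutator Cover)).map (commutator Cover).subtype =
        ⁅commutator Cover, commutator Cover⁆ by
      show (⁅⊤, ⊤⁆ : Subgroup ↥(commutator Cover)).map _ = _
      rw [Subgroup.map_commutator, ← MonoidHom.range_eq_map, Subgroup.range_subtype]] at hx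
    obtain ⟨y, hy, hye⟩ := hx
    rwa [← Subtype.ext hye]
  · refine ⟨(MulEquiv.ofBijective
      ({ toFun := fun t => ⟨⟨τ t.toAdd, hτc _⟩, (hψk _).2 ⟨_, rfl⟩⟩
         map_one' := Subtype.ext (Subtype.ext (Subtype.ext tau_zero))
         map_mul' := fun s t => Subtype.ext (Subtype.ext (τ_mul s.toAdd t.toAdd).symm) } :
        Multiplicative (ZMod 3) →* ψ.ker) ⟨fun s t h => ?_, fun x => ?_⟩).symm⟩
    · exact Multiplicative.toAdd.injective (τ_inj (congrArg Subtype.val (congrArg Subtype.val h)))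
    · obtain ⟨t, ht⟩ := (hψk x.1).1 x.2
      exact ⟨Multiplicative.ofAdd t, Subtype.ext ht.symm⟩

end H24.Fi24Cover
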